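import Cfsg.Agent.Lib.MonsterLocal.OkSeven
import Cfsg.Agent.Lib.MonsterLocal.Gen
import Cfsg.Agent.Lib.MonsterLocal.Intertwine
import Cfsg.Agent.Lib.Generators.SmallPermGroups

/-!
The centraliser of an element of order 7: `7 × SL₃(2)` modulo the centre.
-/

set_option autoImplicit false
set_option maxRecDepth 20000
set_option maxHeartbeats 2000000

namespace CfsgLib.MonsterLocal.Seven

open Cfsg CfsgLib.Fischer2 CfsgLib.Leech
open CfsgLib.Golay (IsTbl)

/-- A matrix inverting the element. -/
def invMat : List (List ℤ) := ([3175472747758993334014620237398747855170097676546008514435,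
    3175474244313923200756707323497293374315769760088489820031,
    3126243570440725563471531105752461525686491685891978001793,
    3175474244336758816751988422236988400371048444548146626431,
    3126626700172038136439690984044975302526730048958403411329,
    3175474244336669962225654938768553324298695386118679004031,
    3126243576286821315775957670247201138735516705908041417089,
    3126243576309657278859232258839786924805061953457729011073,
    3175474244336669962220338026786646765217163412206654422911,
    3175091120451453488644618972346110169697250654038236692351,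
    3126243570463651077984764313381708890527375061752093835649,
    3224323290902238551160014837521455887911575863021323649409,
    3077394535567259623253202934161914177855740628972125388671,
    3126242079709144688931348741616136712557583926075880079749,
    3224323290902238202710871110796148828247562345630022991233,
    3224323290925074164433057770397999648144521276221850354049,
    3126626700194873751068504933930347469850729805204766818689,
    3126626694326031237305785347001148741944931179619319513473,
    3224706414787365471944666575061608221525629007197384966529,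
    3126243576286821315775936900742854330478478180585220047233,
    3175474244336759163845298824708077228401125930360841011071,
    3126242079709144688931348579356859883344220534497869791613,
    3126243576286821664219763716117613922354910159158374269313,
    3126243570440814766452345997432456953203565035033267765633] : List ℕ).map unp

/-- Images of the basis classes under the matrix. -/
def invImgs : List ℕ := [3, 10, 1, 60, 4, 40]

/-- No permutation of the code inverts the element. -/
def noInv : List (ℕ × ℕ) × List (List (ℕ × ℕ)) :=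
  ([(0, 0), (0, 0), (0, 0), (0, 0), (0, 0), (0, 0), (0, 0), (0, 0), (0, 0), (0, 0), (0, 0), (0, 0), (0, 0), (0, 0), (0, 0), (0, 0), (0, 0), (0, 0), (0, 0), (0, 0), (0, 0), (0, 0), (0, 0), (0, 0)],
   [[], [(0, 0), (0, 0), (8077824, 13911680), (0, 0), (8077824, 1312345), (0, 0), (14551296, 2180760), (14551296, 4744776), (0, 0), (0, 0), (8077824, 1351424), (8077824, 1084018), (0, 0), (0, 0), (8077824, 9589508), (8077824, 1903248), (8077824, 11669008), (8077824, 14156372), (8077824, 1134148), (8077824, 1589901), (0, 0), (0, 0), (8077824, 10021376), (8077824, 10093218)], [(0, 0), (8077824, 8412681), (0, 0), (8077824, 14176296), (8077824, 8733800), (8077824, 8474906), (8077824, 11654144), (0, 0), (14551296, 8716939), (8077824, 8414120), (8077824, 8834052), (8077824, 8439632), (8077824, 9589508), (0, 0), (0, 0), (8077824, 8773776), (8077824, 13192208), (0, 0), (14551296, 10584520), (0, 0), (8077824, 8704546), (0, 0), (0, 0), (0, 0)], [(0, 0), (0, 0), (8077824, 12587685), (0, 0), (8077824, 4490852), (0, 0), (8077824, 8490656), (8077824, 12733024), (0, 0), (0, 0),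 (8077824, 3050016), (8077824, 1084018), (0, 0), (0, 0), (8077824, 8561204), (8077824, 361272), (14551296, 14949408), (8077824, 4850476), (8077824, 334433), (8077824, 475812), (0, 0), (0, 0), (14551296, 8484900), (8077824, 10093218)], [(0, 0), (8077824, 104010), (8077824, 12661896), (8077824, 1121336), (0, 0), (14551296, 1836419), (0, 0), (8077824, 4441280), (8077824, 5325835), (8077824, 198058), (0, 0), (0, 0), (8077824, 10028808), (0, 0), (8077824, 13829156), (0, 0), (0, 0), (8077824, 4785798), (0, 0), (14551296, 8660134), (8077824, 3474978), (0, 0), (8077824, 13192208), (8077824, 11469952)], [(0, 0), (0, 0), (8077824, 12661896), (0, 0), (14551296, 2890176), (0, 0), (8077824, 104010), (8077824, 4346506), (0, 0), (0, 0), (8077824, 9279496), (8077824, 39257), (0, 0), (0, 0), (8077824, 12720156), (8077824, 463064), (8077824, 1121336), (8077824, 4755660), (8077824, 6379592), (14551296, 8401364), (0, 0), (0, 0), (8077824, 14176296), (8077824, 9048457)], [(0, 0), (14551296, 118953), (8077824, 12638592), (8077824, 9607201), (0, 0), (8077824, 2201890), (0, 0), (14551296,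 4845570), (8077824, 1103886), (8077824, 1608104), (0, 0), (0, 0), (8077824, 1351424), (0, 0), (8077824, 8834052), (0, 0), (0, 0), (8077824, 13142054), (0, 0), (8077824, 2738308), (8077824, 1084018), (0, 0), (8077824, 10021376), (8077824, 9078992)], [(0, 0), (14551296, 4330601), (0, 0), (8077824, 9607201), (8077824, 12985424), (8077824, 12726562), (14551296, 6493202), (0, 0), (8077824, 9835530), (8077824, 9568632), (8077824, 8834052), (8077824, 9078992), (8077824, 9589508), (0, 0), (0, 0), (8077824, 8849458), (8077824, 11669008), (0, 0), (8077824, 8592704), (0, 0), (8077824, 10093218), (0, 0), (0, 0), (0, 0)], [(0, 0), (0, 0), (14551296, 5709954), (0, 0), (8077824, 6100032), (0, 0), (8077824, 11654144), (8077824, 5405696), (0, 0), (0, 0), (8077824, 1351424), (8077824, 1217620), (0, 0), (0, 0), (8077824, 9589508), (8077824, 1413139), (8077824, 1121336), (8077824, 5902343), (14551296, 7438406), (8077824, 5329044), (0, 0), (0, 0), (8077824, 14176296), (8077824, 2019456)], [(0, 0), (0, 0), (8077824, 13631886), (0, 0), (8077824, 6554826), (0, 0), (8077824, 104010),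 (8077824, 4346506), (0, 0), (0, 0), (8077824, 298027), (8077824, 8683614), (0, 0), (0, 0), (8077824, 8536111), (14551296, 2491452), (8077824, 150618), (14551296, 843820), (8077824, 1378634), (8077824, 90318), (0, 0), (0, 0), (8077824, 8963210), (8077824, 919694)], [(0, 0), (8077824, 2365978), (8077824, 13373586), (8077824, 5640752), (0, 0), (8077824, 267634), (0, 0), (8077824, 6703248), (8077824, 1327290), (8077824, 361272), (0, 0), (0, 0), (14551296, 1460739), (0, 0), (14551296, 8796800), (0, 0), (0, 0), (8077824, 5210132), (0, 0), (8077824, 804052), (8077824, 786999), (0, 0), (8077824, 9323032), (8077824, 926128)], [(0, 0), (8077824, 12849992), (8077824, 12912836), (8077824, 3444840), (0, 0), (8077824, 267634), (0, 0), (8077824, 5652556), (8077824, 1378634), (8077824, 262637), (0, 0), (0, 0), (8077824, 1852256), (0, 0), (8077824, 9310308), (0, 0), (0, 0), (8077824, 4989254), (0, 0), (8077824, 804052), (14551296, 8946281), (0, 0), (8077824, 15515712), (14551296, 5939296)], [(0, 0), (0, 0), (8077824, 13108704), (0, 0), (8077824, 267634), (0, 0), (8077824,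 1148257), (8077824, 5390753), (0, 0), (0, 0), (14551296, 3328320), (8077824, 2654580), (0, 0), (0, 0), (14551296, 9610624), (8077824, 361272), (8077824, 4361520), (8077824, 4850476), (8077824, 84464), (8077824, 545190), (0, 0), (0, 0), (8077824, 9158944), (8077824, 926128)], [], [(0, 0), (8077824, 8925710), (0, 0), (8077824, 1675812), (8077824, 804052), (8077824, 545190), (8077824, 9020484), (0, 0), (8077824, 1573998), (8077824, 4850476), (14551296, 10525252), (8077824, 2654580), (14551296, 9471495), (0, 0), (0, 0), (8077824, 5210132), (8077824, 560668), (0, 0), (8077824, 596054), (0, 0), (8077824, 786999), (0, 0), (0, 0), (0, 0)], [(0, 0), (8077824, 104010), (8077824, 12912836), (8077824, 1265762), (0, 0), (8077824, 4264387), (0, 0), (8077824, 4441280), (8077824, 1378634), (14551296, 201013), (0, 0), (0, 0), (8077824, 3216208), (0, 0), (8077824, 10698836), (0, 0), (0, 0), (14551296, 615188), (0, 0), (8077824, 90318), (8077824, 8455014), (0, 0), (8077824, 8999616), (8077824, 1769924)], [(0, 0), (8077824, 9474712), (8077824, 14714004), (14551296, 13636881),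 (0, 0), (8077824, 4231958), (0, 0), (8077824, 13811730), (8077824, 3179802), (8077824, 361272), (0, 0), (0, 0), (8077824, 1737489), (0, 0), (8077824, 8561204), (0, 0), (0, 0), (8077824, 5210132), (0, 0), (8077824, 180636), (8077824, 1084018), (0, 0), (14551296, 9462812), (8077824, 9078992)], [(0, 0), (8077824, 4346506), (0, 0), (8077824, 5280930), (8077824, 6554826), (8077824, 4264387), (8077824, 4441280), (0, 0), (8077824, 13631886), (14551296, 5017889), (8077824, 5024896), (8077824, 5538256), (8077824, 5780352), (0, 0), (0, 0), (14551296, 7079696), (8077824, 4202192), (0, 0), (8077824, 12912836), (0, 0), (8077824, 4459426), (0, 0), (0, 0), (0, 0)], [(0, 0), (8077824, 8412681), (14551296, 4336072), (8077824, 1121336), (0, 0), (8077824, 4726026), (0, 0), (8077824, 5405696), (14551296, 4196943), (8077824, 2101096), (0, 0), (0, 0), (8077824, 1351424), (0, 0), (8077824, 8834052), (0, 0), (0, 0), (8077824, 6949956), (0, 0), (8077824, 4213932), (8077824, 138790), (0, 0), (8077824, 13192208), (8077824, 675712)], [(0, 0), (8077824, 4346506), (0, 0), (8077824, 14176296),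 (14551296, 2377830), (14551296, 1065303), (8077824, 4441280), (0, 0), (8077824, 5325835), (8077824, 4243818), (8077824, 5621792), (8077824, 4253780), (8077824, 5262104), (0, 0), (0, 0), (8077824, 4538962), (8077824, 13192208), (0, 0), (8077824, 6379592), (0, 0), (8077824, 5268006), (0, 0), (0, 0), (0, 0)], [(0, 0), (0, 0), (8077824, 13631886), (0, 0), (8077824, 267634), (0, 0), (8077824, 12944642), (8077824, 4409606), (0, 0), (0, 0), (8077824, 837906), (14551296, 11108882), (0, 0), (0, 0), (8077824, 9045270), (8077824, 2425238), (8077824, 69395), (8077824, 4989254), (8077824, 1378634), (8077824, 545190), (0, 0), (0, 0), (8077824, 13124355), (14551296, 4860434)], [], [(0, 0), (8077824, 1710664), (0, 0), (14551296, 1661185), (8077824, 951624), (8077824, 987906), (8077824, 1805314), (0, 0), (8077824, 1728778), (8077824, 4850476), (8077824, 3050016), (8077824, 9078992), (8077824, 1737489), (0, 0), (0, 0), (8077824, 5210132), (14551296, 3951624), (0, 0), (8077824, 1009728), (0, 0), (8077824, 10093218), (0, 0), (0, 0), (0, 0)], [(0, 0), (8077824, 72588), (0, 0),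 (8077824, 1192108), (8077824, 804052), (8077824, 545190), (8077824, 1410188), (0, 0), (8077824, 13631886), (8077824, 262637), (8077824, 301236), (14551296, 3375280), (8077824, 1050548), (0, 0), (0, 0), (8077824, 2425238), (8077824, 208020), (0, 0), (8077824, 12912836), (0, 0), (14551296, 133817), (0, 0), (0, 0), (0, 0)]])

/-- The checks on the inverting matrix. -/
def invOk : Bool :=
  matOk invMat && matIntertw data.t data.ti invMat && decide (invImgs.length = data.B.length) &&
    ((List.range data.B.length).all fun j =>
      sameClass (CfsgLib.McLInv.ap8 invMat (data.B.getD j [])) (combL data.B (invImgs.getD j 0))) &&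
    (data.rest.all fun x => data.orb.contains (xorImg invImgs x)) &&
    noneOk data.t data.ti data.p 1 2 noInv.1 noInv.2

theorem inv_ok : invOk = true := by decide +kernel

theorem inv_spec : matFn invMat * data.σ = data.σ⁻¹ * matFn invMat ∧
    ∀ x, CongTwo (matFn invMat • combV data.B x) (combV data.B (xorImg invImgs x)) := by
  obtain ⟨-, hτ, hti, hd, -⟩ := Data.base_spec ok
  obtain ⟨hB, -⟩ := dualOk_spec hd
  have h := inv_ok
  simp only [invOk, Bool.and_eq_true, decide_eq_true_eq, List.all_eq_true, List.mem_range] at h
  obtain ⟨⟨⟨⟨⟨hM, hint⟩, hlen⟩, hj⟩, -⟩, -⟩ := h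
  refine ⟨?_, fun x => xorImg_spec data.B _ hlen (fun j hjl => ?_) x⟩
  · rw [Data.σ, matFn_intertw (υ := data.τ⁻¹) hτ hti hM hint, ← permHom_apply, map_inv, permHom_apply]
  · have hm := List.all_eq_true.1 hB _ (List.getElem_mem hjl)
    have hl : (data.B[j]).length = 24 := by
      simp only [memTest, Bool.and_eq_true, decide_eq_true_eq] at hm
      exact hm.1
    obtain ⟨a1, a2⟩ := matFn_spec hM hl (coordVec_vecOf hm).symm
    obtain ⟨b1, b2⟩ := combL_spec hB (invImgs.getD j 0)
    have := hj j hjl
    rw [List.getD_eq_getElem _ _ hjl] at this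
    exact congTwo_of_sameClass a1 b1 a2 b2 this

theorem no_invert (h : M24) : h * data.τ ≠ data.τ⁻¹ * h := by
  obtain ⟨-, hτ, hti, -⟩ := Data.base_spec ok
  have hn := inv_ok
  simp only [invOk, Bool.and_eq_true] at hn
  intro e
  exact false_of_noneOk hτ hti hn.2 h (congrArg Subtype.val e)

/-- No element inverting the element fixes the class of the axes. -/
theorem no_invert_mono {u : Co0} (hu : CongTwo (u • vecA) vecA) : u * data.σ ≠ data.σ⁻¹ * u := by
  intro hc
  obtain ⟨d, ρ, rfl⟩ := exists_monomial hu
  rw [Data.σ, show (permAut data.τ)⁻¹ = permAut data.τ⁻¹ from (map_inv permHom data.τ).symm] at hc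
  have hR : permAut data.τ⁻¹ * (signAut d * permAut ρ) =
      signAut ⟨fun i => (d : GolayPt → ZMod 2) (((data.τ⁻¹ : M24) : Equiv.Perm GolayPt).symm i),
        comp_mem_golayCode (M24.inv_mem (data.τ⁻¹).2) d.2⟩ * permAut (data.τ⁻¹ * ρ) := by
    rw [← mul_assoc, permAut_mul_signAut, mul_assoc]
    congr 1
  rw [hR, mul_assoc, show permAut ρ * permAut data.τ = permAut (ρ * data.τ) from
    (map_mul permHom ρ data.τ).symm] at hc
  exact no_invert ρ (monomial_unique hc).2

theorem rest_excluded : ∀ h : Co0, h * data.σ = data.σ * h → ∀ x ∈ data.rest,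
    ¬ CongTwo (h • vecA) (combV data.B x) := by
  intro h hc x hx hcong
  have hi := inv_ok
  simp only [invOk, Bool.and_eq_true, List.all_eq_true, List.contains_iff_mem] at hi
  obtain ⟨hM, hMimg⟩ := inv_spec
  obtain ⟨i, hil, he⟩ := List.getElem_of_mem (hi.1.2 x hx)
  obtain ⟨t, ht, htv⟩ := Data.exists_transversal ok i hil
  rw [List.getD_eq_getElem _ _ hil, he] at htv
  set m := matFn invMat
  refine no_invert_mono (u := t⁻¹ * (m * h)) ?_ ?_
  · have h1 := ((hcong.smul m).trans (hMimg x)).trans htv.symm
    have h2 := h1.smul t⁻¹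
    rwa [inv_smul_smul, ← mul_smul, ← mul_smul] at h2
  · have h1 : Commute t⁻¹ data.σ⁻¹ := (show Commute t data.σ from Data.comm_of_mem_gen ok ht).inv_left.inv_right
    calc t⁻¹ * (m * h) * data.σ = t⁻¹ * ((m * data.σ) * h) := by
          rw [mul_assoc, mul_assoc m h, hc, mul_assoc m]
      _ = t⁻¹ * data.σ⁻¹ * (m * h) := by rw [hM]; simp only [mul_assoc]
      _ = data.σ⁻¹ * (t⁻¹ * (m * h)) := by rw [h1.eq, mul_assoc]

/-- The vector with the bits of `i + 1`. -/
def dec (i : Fin 7) : Fin 3 → ZMod 2 := fun j => if ((i : ℕ) + 1).testBit j then 1 else 0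

/-- The number, less one, of a nonzero vector. -/
def enc (v : Fin 3 → ZMod 2) : Fin 7 :=
  Fin.ofNat 7 (((if v 0 = 1 then 1 else 0) + (if v 1 = 1 then 2 else 0) + (if v 2 = 1 then 4 else 0)) - 1)

theorem dec_enc : ∀ v : Fin 3 → ZMod 2, v ≠ 0 → dec (enc v) = v := by decide +kernel

theorem enc_dec : ∀ i, enc (dec i) = i := by decide +kernel

theorem dec_ne : ∀ i, dec i ≠ 0 := by decide +kernel

/-- The action of a matrix on the seven points. -/
def actFun (M : Matrix.SpecialLinearGroup (Fin 3) (ZMod 2)) (i : Fin 7) : Fin 7 :=
  enc ((M : Matrix (Fin 3) (Fin 3) (ZMod 2)).mulVec (dec i))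

theorem dec_actFun (M : Matrix.SpecialLinearGroup (Fin 3) (ZMod 2)) (i : Fin 7) :
    dec (actFun M i) = (M : Matrix (Fin 3) (Fin 3) (ZMod 2)).mulVec (dec i) := by
  refine dec_enc _ fun h => dec_ne i ?_
  have h1 := congrArg ((M⁻¹ : Matrix.SpecialLinearGroup (Fin 3) (ZMod 2)) :
    Matrix (Fin 3) (Fin 3) (ZMod 2)).mulVec h
  rwa [Matrix.mulVec_mulVec, ← Matrix.SpecialLinearGroup.coe_mul, inv_mul_cancel,
    Matrix.SpecialLinearGroup.coe_one, Matrix.one_mulVec, Matrix.mulVec_zero] at h1

theorem actFun_mul (M N : Matrix.SpecialLinearGroup (Fin 3) (ZMod 2)) (i : Fin 7) :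
    actFun (M * N) i = actFun M (actFun N i) := by
  conv_rhs => rw [actFun, dec_actFun, Matrix.mulVec_mulVec, ← Matrix.SpecialLinearGroup.coe_mul]
  rfl

theorem actFun_one (i : Fin 7) : actFun 1 i = i := by
  rw [actFun, Matrix.SpecialLinearGroup.coe_one, Matrix.one_mulVec, enc_dec]

/-- The action as a homomorphism. -/
def emb : Matrix.SpecialLinearGroup (Fin 3) (ZMod 2) →* Equiv.Perm (Fin 7) :=
  MonoidHom.mk' (fun M => ⟨actFun M, actFun M⁻¹,
    fun i => by rw [← actFun_mul, inv_mul_cancel, actFun_one],
    fun i => by rw [← actFun_mul, mul_inv_cancel, actFun_one]⟩) fun M N => Equiv.ext (actFun_mul M N)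

theorem emb_injective : Function.Injective emb := by
  refine (injective_iff_map_eq_one emb).2 fun M hM => ?_
  have h : ∀ i, actFun M i = i := fun i => congrArg (fun p : Equiv.Perm (Fin 7) => p i) hM
  have hcol : ∀ i, (M : Matrix (Fin 3) (Fin 3) (ZMod 2)).mulVec (dec i) = dec i := fun i => by
    rw [← dec_actFun, h]
  have hd : ∀ j : Fin 3, dec (enc (Pi.single j 1)) = Pi.single j 1 := by decide +kernel
  refine Subtype.ext (Matrix.ext fun a j => ?_)
  have h1 := congrFun (hcol (enc (Pi.single j 1))) a
  rw [hd j, Matrix.mulVec_single_one] at h1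
  rw [Matrix.SpecialLinearGroup.coe_one, Matrix.one_apply]
  simpa [Pi.single_apply] using h1

/-- The matrix with the columns read off a permutation. -/
def matOf (ρ : Equiv.Perm (Fin 7)) : Matrix (Fin 3) (Fin 3) (ZMod 2) :=
  Matrix.of fun a j => dec (ρ (enc (Pi.single j 1))) a

theorem perms_linear : ∀ ρ ∈ act.perms, (matOf ρ).det = 1 ∧
    ∀ i, ρ i = enc ((matOf ρ).mulVec (dec i)) := by decide +kernel

theorem natCard_sl : Nat.card (Matrix.SpecialLinearGroup (Fin 3) (ZMod 2)) = 168 := by
  have hone : ∀ u : (ZMod 2)ˣ, u = 1 := by decide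
  rw [← CfsgLib.Generators.SmallPermGroups.card_GL3]
  refine Nat.card_eq_of_bijective Matrix.SpecialLinearGroup.toGL
    ⟨Matrix.SpecialLinearGroup.toGL_injective, fun g => ?_⟩
  have hdet := congrArg Units.val (hone (Matrix.GeneralLinearGroup.det g))
  rw [Matrix.GeneralLinearGroup.val_det_apply] at hdet
  exact ⟨⟨g, hdet⟩, Units.ext rfl⟩

theorem prog_ok : progOk act.perms prog = true := by decide +kernel

theorem prog_nodup : prog.length = 168 ∧
    (prog.map fun e => (List.range 7).map fun i => e.2.2.getD i 7).Nodup := by decide +kernel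

theorem gen_eq : Subgroup.closure {ρ | ρ ∈ act.perms} = emb.range := by
  refine Subgroup.eq_of_le_of_card_ge ((Subgroup.closure_le _).2 fun ρ hρ => ?_) ?_
  · obtain ⟨h1, h2⟩ := perms_linear ρ hρ
    exact ⟨⟨matOf ρ, h1⟩, Equiv.ext fun i => (h2 i).symm⟩
  · rw [Nat.card_congr (MonoidHom.ofInjective emb_injective).toEquiv.symm, natCard_sl, ← prog_nodup.1]
    exact length_le_card_closure prog_ok prog_nodup.2

theorem cent : CentHom data (Matrix.SpecialLinearGroup (Fin 3) (ZMod 2)) :=
  centHom ok rest_excluded (by decide) pow_ok not_id act act_ok emb emb_injective gen_eq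
    (by rw [natCard_sl]; decide +kernel)

theorem no_normal_two (N : Subgroup (Matrix.SpecialLinearGroup (Fin 3) (ZMod 2))) [N.Normal]
    (hN : IsPGroup 2 N) : N = ⊥ := by
  have hone : ∀ u : (ZMod 2)ˣ, u = 1 := by decide
  have := CfsgLib.Generators.SmallPermGroups.isSimple_GL3
  have hb : Function.Bijective (Matrix.SpecialLinearGroup.toGL :
      Matrix.SpecialLinearGroup (Fin 3) (ZMod 2) →* GL (Fin 3) (ZMod 2)) := by
    refine ⟨Matrix.SpecialLinearGroup.toGL_injective, fun g => ?_⟩
    have hdet := congrArg Units.val (hone (Matrix.GeneralLinearGroup.det g))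
    rw [Matrix.GeneralLinearGroup.val_det_apply] at hdet
    exact ⟨⟨g, hdet⟩, Units.ext rfl⟩
  have := (MulEquiv.ofBijective _ hb).isSimpleGroup
  refine (Subgroup.Normal.eq_bot_or_eq_top (H := N) inferInstance).resolve_right fun h => ?_
  obtain ⟨k, hk⟩ := IsPGroup.iff_card.1 hN
  rw [h, Subgroup.card_top, natCard_sl] at hk
  have hd : 7 ∣ 2 ^ k := hk ▸ (by norm_num)
  exact absurd ((show Nat.Prime 7 by norm_num).dvd_of_dvd_pow hd) (by norm_num)

end CfsgLib.MonsterLocal.Seven
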