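import Cfsg.Agent.Lib.MonsterLocal.OkThree
import Cfsg.Agent.Lib.MonsterLocal.Gen
import Mathlib.GroupTheory.SpecificGroups.Alternating.Simple

/-!
The centraliser of a fixed-point-free element of order 3: `3 × A₉` modulo the centre.
-/

set_option autoImplicit false
set_option maxRecDepth 20000
set_option maxHeartbeats 2000000

namespace CfsgLib.MonsterLocal.Three

open Cfsg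

/-- Products giving all three-cycles. -/
def cycleProg : List (ℕ × ℕ × List ℕ) :=
  [(0, 0, [0, 1, 2, 3, 4, 5, 6, 7, 8]),
    (0, 0, [1, 0, 7, 6, 5, 4, 3, 2, 8]),
    (1, 1, [5, 2, 7, 6, 4, 1, 0, 3, 8]),
    (0, 2, [4, 7, 2, 3, 5, 0, 1, 6, 8]),
    (6, 3, [3, 8, 4, 2, 7, 5, 6, 1, 0]),
    (5, 4, [6, 8, 5, 0, 1, 4, 3, 7, 2]),
    (6, 5, [1, 0, 7, 5, 6, 3, 2, 8, 4]),
    (3, 6, [0, 1, 2, 3, 4, 5, 7, 8, 6]),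
    (4, 3, [0, 3, 5, 7, 2, 4, 6, 1, 8]),
    (6, 8, [5, 2, 7, 8, 4, 3, 1, 6, 0]),
    (5, 9, [4, 0, 1, 8, 5, 6, 7, 3, 2]),
    (6, 10, [3, 5, 6, 0, 7, 1, 8, 2, 4]),
    (2, 11, [0, 1, 2, 3, 4, 5, 8, 6, 7]),
    (6, 1, [6, 5, 8, 1, 7, 3, 2, 4, 0]),
    (6, 13, [1, 7, 0, 6, 8, 2, 4, 3, 5]),
    (6, 14, [6, 8, 5, 1, 0, 4, 3, 2, 7]),
    (6, 15, [1, 0, 7, 6, 5, 3, 2, 4, 8]),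
    (0, 16, [0, 1, 2, 3, 4, 6, 7, 5, 8]),
    (4, 13, [1, 2, 8, 6, 3, 7, 5, 0, 4]),
    (1, 18, [5, 3, 8, 6, 0, 7, 4, 2, 1]),
    (6, 19, [7, 2, 0, 1, 5, 8, 3, 4, 6]),
    (6, 20, [8, 4, 5, 6, 7, 0, 2, 3, 1]),
    (3, 21, [8, 6, 3, 4, 2, 1, 7, 5, 0]),
    (6, 22, [0, 1, 2, 3, 4, 6, 8, 7, 5]),
    (3, 0, [1, 0, 7, 5, 6, 3, 4, 2, 8]),
    (6, 24, [6, 5, 8, 7, 1, 2, 3, 4, 0]),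
    (6, 25, [1, 7, 0, 8, 6, 4, 2, 3, 5]),
    (6, 26, [6, 8, 5, 0, 1, 3, 4, 2, 7]),
    (6, 27, [1, 0, 7, 5, 6, 2, 3, 4, 8]),
    (3, 28, [0, 1, 2, 3, 4, 7, 5, 6, 8]),
    (1, 0, [2, 5, 3, 0, 1, 4, 6, 7, 8]),
    (0, 30, [7, 4, 6, 1, 0, 5, 3, 2, 8]),
    (2, 31, [4, 7, 2, 5, 3, 1, 0, 6, 8]),
    (6, 32, [3, 8, 4, 7, 2, 6, 5, 1, 0]),
    (5, 33, [6, 8, 5, 1, 0, 3, 4, 7, 2]),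
    (6, 34, [1, 0, 7, 6, 5, 2, 3, 8, 4]),
    (0, 35, [0, 1, 2, 3, 4, 7, 6, 8, 5]),
    (3, 1, [0, 1, 2, 4, 3, 6, 5, 7, 8]),
    (6, 37, [5, 6, 4, 3, 2, 1, 7, 8, 0]),
    (6, 38, [7, 1, 3, 2, 4, 6, 8, 0, 5]),
    (0, 39, [2, 0, 6, 7, 5, 3, 8, 1, 4]),
    (3, 40, [7, 1, 4, 2, 3, 5, 8, 0, 6]),
    (6, 41, [8, 6, 3, 4, 2, 7, 0, 5, 1]),
    (6, 42, [0, 1, 2, 3, 4, 8, 5, 7, 6]),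
    (6, 30, [4, 7, 2, 5, 6, 3, 1, 8, 0]),
    (4, 44, [0, 3, 5, 2, 1, 7, 6, 8, 4]),
    (6, 45, [5, 2, 7, 4, 6, 8, 1, 0, 3]),
    (1, 46, [4, 3, 7, 1, 6, 8, 5, 2, 0]),
    (1, 47, [1, 0, 7, 5, 6, 8, 4, 3, 2]),
    (3, 48, [0, 1, 2, 3, 4, 8, 6, 5, 7]),
    (3, 30, [7, 3, 5, 1, 0, 6, 4, 2, 8]),
    (6, 50, [8, 2, 7, 6, 5, 1, 3, 4, 0]),
    (0, 51, [8, 7, 2, 3, 4, 0, 6, 5, 1]),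
    (1, 52, [8, 7, 3, 0, 1, 2, 6, 4, 5]),
    (0, 53, [8, 2, 6, 1, 0, 7, 3, 5, 4]),
    (1, 54, [8, 3, 6, 5, 2, 7, 0, 4, 1]),
    (5, 55, [8, 6, 3, 4, 0, 1, 2, 5, 7]),
    (6, 56, [0, 1, 2, 3, 5, 6, 4, 7, 8]),
    (5, 1, [7, 2, 1, 3, 4, 5, 6, 0, 8]),
    (1, 58, [7, 3, 5, 0, 1, 4, 6, 2, 8]),
    (6, 59, [8, 2, 7, 5, 6, 3, 1, 4, 0]),
    (1, 60, [8, 3, 7, 4, 6, 0, 5, 1, 2]),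
    (0, 61, [8, 6, 2, 5, 3, 1, 4, 0, 7]),
    (1, 62, [8, 6, 3, 4, 0, 5, 1, 2, 7]),
    (6, 63, [0, 1, 2, 3, 5, 7, 6, 4, 8]),
    (4, 1, [6, 4, 3, 1, 2, 0, 7, 5, 8]),
    (6, 65, [1, 3, 2, 6, 4, 5, 8, 7, 0]),
    (5, 66, [7, 6, 0, 3, 5, 4, 8, 1, 2]),
    (6, 67, [8, 1, 5, 2, 7, 3, 0, 6, 4]),
    (4, 68, [8, 6, 2, 5, 3, 7, 4, 1, 0]),
    (1, 69, [8, 6, 3, 4, 0, 7, 1, 5, 2]),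
    (6, 70, [0, 1, 2, 3, 5, 8, 6, 7, 4]),
    (0, 13, [3, 4, 8, 0, 2, 6, 7, 5, 1]),
    (6, 72, [2, 3, 0, 5, 4, 1, 8, 7, 6]),
    (1, 73, [3, 0, 2, 4, 1, 5, 8, 7, 6]),
    (4, 74, [7, 4, 5, 0, 6, 2, 8, 3, 1]),
    (1, 75, [7, 1, 4, 2, 6, 3, 8, 0, 5]),
    (6, 76, [8, 6, 3, 4, 1, 2, 0, 5, 7]),
    (6, 77, [0, 1, 2, 3, 6, 4, 5, 7, 8]),
    (0, 44, [5, 2, 7, 4, 3, 6, 0, 8, 1]),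
    (5, 79, [4, 0, 1, 5, 6, 3, 2, 8, 7]),
    (6, 80, [3, 5, 6, 7, 1, 2, 4, 0, 8]),
    (0, 81, [6, 4, 3, 2, 0, 7, 5, 1, 8]),
    (2, 82, [2, 7, 0, 6, 3, 4, 1, 5, 8]),
    (5, 83, [0, 1, 2, 3, 6, 5, 7, 4, 8]),
    (2, 1, [5, 3, 4, 2, 1, 7, 0, 6, 8]),
    (6, 85, [7, 2, 3, 4, 6, 8, 5, 1, 0]),
    (3, 86, [2, 7, 5, 6, 4, 8, 3, 0, 1]),
    (6, 87, [4, 8, 7, 1, 3, 0, 2, 5, 6]),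
    (0, 88, [5, 8, 2, 0, 6, 1, 7, 4, 3]),
    (6, 89, [7, 0, 4, 5, 1, 6, 8, 3, 2]),
    (4, 90, [3, 4, 0, 2, 6, 1, 8, 7, 5]),
    (1, 91, [0, 1, 2, 3, 6, 5, 8, 7, 4]),
    (6, 44, [3, 8, 4, 7, 1, 2, 6, 0, 5]),
    (3, 93, [5, 8, 6, 2, 0, 7, 4, 1, 3]),
    (6, 94, [7, 0, 1, 4, 5, 8, 3, 6, 2]),
    (0, 95, [2, 1, 0, 5, 4, 8, 6, 3, 7]),
    (6, 96, [4, 6, 5, 7, 3, 0, 1, 2, 8]),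
    (4, 97, [0, 1, 2, 3, 7, 4, 6, 5, 8]),
    (1, 30, [3, 4, 0, 2, 5, 1, 6, 7, 8]),
    (3, 99, [5, 6, 1, 7, 3, 0, 4, 2, 8]),
    (6, 100, [7, 1, 6, 8, 2, 5, 3, 4, 0]),
    (6, 101, [8, 6, 1, 0, 4, 7, 2, 3, 5]),
    (6, 102, [0, 1, 6, 5, 3, 8, 4, 2, 7]),
    (6, 103, [5, 6, 1, 7, 2, 0, 3, 4, 8]),
    (1, 104, [4, 6, 5, 7, 3, 2, 0, 1, 8]),
    (4, 105, [0, 1, 2, 3, 7, 5, 4, 6, 8]),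
    (2, 0, [3, 5, 6, 0, 7, 1, 2, 4, 8]),
    (6, 107, [2, 7, 1, 5, 8, 6, 4, 3, 0]),
    (4, 108, [5, 3, 6, 2, 8, 1, 0, 7, 4]),
    (6, 109, [7, 2, 1, 4, 0, 6, 5, 8, 3]),
    (2, 110, [4, 6, 5, 7, 3, 2, 1, 8, 0]),
    (4, 111, [0, 1, 2, 3, 7, 5, 6, 8, 4]),
    (4, 0, [4, 6, 5, 7, 0, 2, 1, 3, 8]),
    (6, 113, [3, 1, 7, 8, 5, 4, 6, 2, 0]),
    (5, 114, [6, 7, 1, 8, 4, 5, 3, 0, 2]),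
    (6, 115, [1, 8, 6, 0, 3, 7, 2, 5, 4]),
    (4, 116, [6, 8, 1, 4, 7, 3, 5, 2, 0]),
    (1, 117, [6, 8, 5, 1, 7, 0, 4, 3, 2]),
    (6, 118, [1, 0, 7, 6, 8, 5, 3, 2, 4]),
    (0, 119, [0, 1, 2, 3, 8, 4, 6, 7, 5]),
    (3, 114, [5, 0, 2, 8, 3, 6, 4, 7, 1]),
    (6, 121, [7, 5, 4, 0, 2, 1, 3, 8, 6]),
    (0, 122, [2, 4, 5, 1, 7, 0, 6, 8, 3]),
    (6, 123, [4, 3, 7, 6, 8, 5, 1, 0, 2]),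
    (1, 124, [1, 0, 7, 6, 8, 4, 5, 2, 3]),
    (0, 125, [0, 1, 2, 3, 8, 5, 4, 7, 6]),
    (6, 0, [5, 6, 4, 2, 3, 7, 1, 8, 0]),
    (4, 127, [2, 1, 0, 5, 7, 3, 6, 8, 4]),
    (6, 128, [4, 6, 5, 7, 8, 2, 1, 0, 3]),
    (4, 129, [0, 1, 2, 3, 8, 5, 6, 4, 7]),
    (1, 14, [5, 7, 2, 6, 8, 3, 1, 0, 4]),
    (6, 131, [7, 8, 4, 1, 0, 2, 6, 5, 3]),
    (3, 132, [2, 8, 6, 0, 1, 7, 4, 3, 5]),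
    (6, 133, [4, 0, 1, 5, 6, 8, 3, 2, 7]),
    (6, 134, [3, 5, 6, 7, 1, 0, 2, 4, 8]),
    (2, 135, [0, 1, 2, 4, 5, 3, 6, 7, 8]),
    (1, 31, [7, 1, 6, 5, 2, 4, 0, 3, 8]),
    (6, 137, [8, 6, 1, 7, 4, 3, 5, 2, 0]),
    (0, 138, [8, 3, 0, 2, 5, 6, 4, 7, 1]),
    (5, 139, [8, 6, 2, 0, 4, 3, 5, 1, 7]),
    (1, 140, [8, 6, 3, 2, 1, 0, 4, 5, 7]),
    (6, 141, [0, 1, 2, 4, 6, 5, 3, 7, 8]),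
    (1, 113, [1, 6, 4, 7, 2, 3, 5, 0, 8]),
    (6, 143, [6, 1, 3, 8, 4, 2, 7, 5, 0]),
    (0, 144, [3, 0, 6, 8, 5, 7, 2, 4, 1]),
    (4, 145, [7, 4, 1, 8, 2, 3, 5, 0, 6]),
    (6, 146, [8, 3, 6, 0, 4, 2, 7, 5, 1]),
    (5, 147, [8, 6, 3, 2, 5, 0, 1, 4, 7]),
    (6, 148, [0, 1, 2, 4, 7, 5, 6, 3, 8]),
    (1, 44, [1, 7, 3, 4, 6, 0, 5, 8, 2]),
    (6, 150, [6, 8, 2, 3, 1, 5, 7, 0, 4]),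
    (2, 151, [2, 8, 6, 0, 5, 1, 4, 3, 7]),
    (6, 152, [4, 0, 1, 5, 7, 6, 3, 2, 8]),
    (6, 153, [3, 5, 6, 7, 8, 1, 2, 4, 0]),
    (2, 154, [0, 1, 2, 4, 8, 5, 6, 7, 3]),
    (1, 127, [4, 6, 1, 3, 0, 7, 5, 8, 2]),
    (1, 156, [1, 6, 5, 0, 2, 7, 4, 8, 3]),
    (4, 157, [6, 1, 2, 4, 5, 3, 0, 8, 7]),
    (6, 158, [1, 6, 4, 3, 7, 2, 5, 0, 8]),
    (1, 159, [5, 6, 1, 0, 7, 3, 4, 2, 8]),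
    (1, 160, [4, 6, 5, 2, 7, 0, 1, 3, 8]),
    (4, 161, [0, 1, 2, 5, 3, 4, 6, 7, 8]),
    (1, 26, [5, 7, 2, 8, 6, 1, 3, 0, 4]),
    (6, 163, [7, 8, 4, 0, 1, 6, 2, 5, 3]),
    (3, 164, [2, 8, 6, 1, 0, 4, 7, 3, 5]),
    (6, 165, [4, 0, 1, 6, 5, 3, 8, 2, 7]),
    (6, 166, [3, 5, 6, 1, 7, 2, 0, 4, 8]),
    (2, 167, [0, 1, 2, 5, 4, 6, 3, 7, 8]),
    (4, 2, [2, 5, 3, 1, 0, 6, 4, 7, 8]),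
    (6, 169, [4, 7, 2, 6, 5, 1, 3, 8, 0]),
    (0, 170, [5, 2, 7, 3, 4, 0, 6, 8, 1]),
    (5, 171, [4, 0, 1, 6, 5, 2, 3, 8, 7]),
    (6, 172, [3, 5, 6, 1, 7, 4, 2, 0, 8]),
    (2, 173, [0, 1, 2, 5, 4, 7, 6, 3, 8]),
    (3, 66, [0, 5, 7, 4, 6, 3, 8, 2, 1]),
    (6, 175, [5, 7, 8, 3, 1, 2, 0, 4, 6]),
    (0, 176, [4, 2, 8, 6, 0, 7, 1, 5, 3]),
    (6, 177, [3, 4, 0, 1, 5, 8, 6, 7, 2]),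
    (1, 178, [0, 1, 2, 5, 4, 8, 6, 7, 3]),
    (0, 25, [3, 4, 8, 2, 0, 7, 6, 5, 1]),
    (6, 180, [2, 3, 0, 4, 5, 8, 1, 7, 6]),
    (1, 181, [3, 0, 2, 1, 4, 8, 5, 7, 6]),
    (4, 182, [7, 4, 5, 6, 0, 8, 2, 3, 1]),
    (1, 183, [7, 1, 4, 6, 2, 8, 3, 0, 5]),
    (6, 184, [8, 6, 3, 1, 4, 0, 2, 5, 7]),
    (6, 185, [0, 1, 2, 6, 3, 5, 4, 7, 8]),
    (1, 25, [6, 4, 8, 7, 5, 3, 0, 1, 2]),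
    (1, 187, [6, 1, 8, 7, 4, 0, 2, 5, 3]),
    (4, 188, [1, 6, 8, 3, 0, 4, 5, 2, 7]),
    (6, 189, [6, 1, 0, 2, 5, 3, 7, 4, 8]),
    (1, 190, [6, 5, 2, 3, 4, 0, 7, 1, 8]),
    (5, 191, [3, 4, 0, 6, 5, 2, 1, 7, 8]),
    (1, 192, [0, 1, 2, 6, 4, 3, 5, 7, 8]),
    (2, 38, [1, 2, 7, 0, 6, 5, 4, 8, 3]),
    (6, 194, [6, 4, 8, 5, 1, 7, 3, 0, 2]),
    (0, 195, [3, 5, 8, 4, 0, 2, 6, 1, 7]),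
    (6, 196, [2, 7, 0, 3, 5, 4, 1, 6, 8]),
    (5, 197, [0, 1, 2, 6, 4, 5, 7, 3, 8]),
    (4, 101, [3, 6, 1, 8, 5, 2, 7, 0, 4]),
    (6, 199, [2, 1, 6, 0, 7, 4, 8, 5, 3]),
    (1, 200, [3, 5, 6, 2, 7, 1, 8, 4, 0]),
    (2, 201, [0, 1, 2, 6, 4, 5, 8, 7, 3]),
    (0, 114, [6, 0, 2, 8, 4, 5, 3, 7, 1]),
    (2, 203, [2, 3, 6, 8, 7, 1, 0, 4, 5]),
    (6, 204, [4, 2, 1, 0, 8, 6, 5, 3, 7]),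
    (2, 205, [7, 6, 5, 3, 8, 2, 1, 0, 4]),
    (6, 206, [8, 1, 7, 2, 0, 4, 6, 5, 3]),
    (4, 207, [8, 6, 3, 5, 4, 0, 1, 2, 7]),
    (6, 208, [0, 1, 2, 7, 3, 5, 6, 4, 8]),
    (5, 0, [2, 7, 0, 6, 5, 4, 3, 1, 8]),
    (6, 210, [4, 8, 5, 1, 7, 3, 2, 6, 0]),
    (3, 211, [6, 8, 3, 0, 2, 5, 7, 4, 1]),
    (6, 212, [1, 0, 2, 5, 4, 7, 8, 3, 6]),
    (5, 213, [7, 2, 0, 4, 5, 1, 8, 6, 3]),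
    (6, 214, [8, 4, 5, 3, 7, 6, 0, 1, 2]),
    (3, 215, [8, 6, 3, 5, 2, 4, 1, 0, 7]),
    (6, 216, [0, 1, 2, 7, 4, 3, 6, 5, 8]),
    (6, 31, [8, 3, 1, 6, 5, 7, 2, 4, 0]),
    (5, 218, [8, 6, 7, 3, 4, 1, 0, 5, 2]),
    (6, 219, [0, 1, 8, 2, 3, 6, 5, 7, 4]),
    (2, 220, [3, 5, 8, 6, 0, 2, 1, 4, 7]),
    (6, 221, [2, 7, 0, 1, 5, 4, 6, 3, 8]),
    (5, 222, [0, 1, 2, 7, 4, 5, 3, 6, 8]),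
    (1, 72, [0, 1, 8, 2, 3, 6, 7, 4, 5]),
    (2, 224, [3, 5, 8, 6, 0, 2, 4, 7, 1]),
    (6, 225, [2, 7, 0, 1, 5, 4, 3, 8, 6]),
    (5, 226, [0, 1, 2, 7, 4, 5, 6, 8, 3]),
    (0, 14, [0, 2, 1, 3, 8, 7, 5, 6, 4]),
    (3, 228, [1, 7, 0, 5, 8, 2, 3, 4, 6]),
    (6, 229, [6, 8, 5, 7, 0, 4, 2, 3, 1]),
    (6, 230, [1, 0, 7, 8, 5, 3, 4, 2, 6]),
    (3, 231, [0, 1, 2, 8, 3, 5, 6, 7, 4]),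
    (5, 30, [0, 4, 6, 2, 7, 5, 3, 1, 8]),
    (6, 233, [5, 3, 1, 4, 8, 7, 2, 6, 0]),
    (6, 234, [7, 2, 6, 3, 0, 8, 4, 1, 5]),
    (6, 235, [8, 4, 1, 2, 5, 0, 3, 6, 7]),
    (1, 236, [8, 1, 5, 3, 4, 2, 0, 6, 7]),
    (4, 237, [8, 6, 2, 7, 0, 5, 4, 1, 3]),
    (1, 238, [8, 6, 3, 7, 2, 4, 1, 5, 0]),
    (6, 239, [0, 1, 2, 8, 4, 3, 6, 7, 5]),
    (2, 13, [2, 1, 8, 5, 4, 0, 6, 7, 3]),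
    (6, 241, [4, 6, 0, 7, 3, 5, 1, 8, 2]),
    (1, 242, [1, 6, 2, 7, 0, 4, 5, 8, 3]),
    (6, 243, [6, 1, 4, 8, 5, 3, 7, 0, 2]),
    (1, 244, [6, 5, 1, 8, 4, 0, 7, 2, 3]),
    (0, 245, [3, 4, 0, 8, 5, 1, 2, 7, 6]),
    (1, 246, [0, 1, 2, 8, 4, 5, 3, 7, 6]),
    (4, 38, [2, 1, 0, 7, 5, 6, 3, 8, 4]),
    (6, 248, [4, 6, 5, 8, 7, 1, 2, 0, 3]),
    (0, 249, [5, 3, 4, 8, 2, 0, 7, 1, 6]),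
    (2, 250, [1, 0, 7, 8, 6, 3, 4, 5, 2]),
    (3, 251, [0, 1, 2, 8, 4, 5, 6, 3, 7]),
    (6, 39, [8, 6, 2, 4, 3, 1, 0, 5, 7]),
    (6, 253, [0, 1, 4, 3, 2, 6, 5, 7, 8]),
    (0, 254, [1, 0, 5, 6, 7, 3, 4, 2, 8]),
    (3, 255, [0, 1, 3, 4, 2, 5, 6, 7, 8]),
    (1, 233, [2, 1, 6, 3, 7, 4, 0, 5, 8]),
    (0, 257, [7, 0, 3, 6, 2, 5, 1, 4, 8]),
    (6, 258, [8, 5, 2, 1, 4, 7, 6, 3, 0]),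
    (1, 259, [8, 4, 3, 5, 1, 7, 6, 0, 2]),
    (1, 260, [8, 1, 0, 4, 5, 7, 6, 2, 3]),
    (4, 261, [8, 6, 4, 0, 2, 3, 1, 5, 7]),
    (6, 262, [0, 1, 3, 5, 4, 2, 6, 7, 8]),
    (6, 99, [2, 3, 5, 4, 7, 6, 1, 8, 0]),
    (2, 264, [6, 0, 1, 7, 4, 2, 5, 8, 3]),
    (6, 265, [1, 5, 6, 8, 3, 4, 7, 0, 2]),
    (0, 266, [0, 4, 3, 8, 6, 5, 2, 1, 7]),
    (6, 267, [5, 3, 2, 0, 1, 7, 4, 6, 8]),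
    (0, 268, [4, 6, 7, 1, 0, 2, 5, 3, 8]),
    (4, 269, [0, 1, 3, 6, 4, 5, 2, 7, 8]),
    (0, 127, [4, 3, 5, 7, 6, 2, 0, 8, 1]),
    (1, 271, [1, 0, 4, 7, 6, 3, 2, 8, 5]),
    (0, 272, [0, 1, 5, 2, 3, 6, 7, 8, 4]),
    (2, 273, [3, 5, 1, 6, 0, 2, 4, 8, 7]),
    (6, 274, [2, 7, 6, 1, 5, 4, 3, 0, 8]),
    (5, 275, [0, 1, 3, 7, 4, 5, 6, 2, 8]),
    (4, 30, [5, 2, 7, 4, 6, 0, 1, 3, 8]),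
    (6, 277, [7, 4, 8, 3, 1, 5, 6, 2, 0]),
    (4, 278, [3, 0, 8, 7, 6, 2, 1, 5, 4]),
    (6, 279, [2, 5, 0, 8, 1, 4, 6, 7, 3]),
    (1, 280, [3, 4, 2, 8, 5, 1, 6, 7, 0]),
    (1, 281, [0, 1, 3, 8, 4, 5, 6, 7, 2]),
    (6, 127, [7, 1, 3, 4, 2, 8, 6, 0, 5]),
    (6, 283, [8, 6, 2, 3, 4, 0, 1, 5, 7]),
    (6, 284, [0, 1, 4, 2, 3, 5, 6, 7, 8]),
    (0, 108, [7, 2, 0, 4, 8, 3, 5, 6, 1]),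
    (5, 286, [1, 0, 2, 5, 8, 6, 4, 3, 7]),
    (6, 287, [6, 5, 4, 7, 0, 1, 3, 2, 8]),
    (0, 288, [3, 4, 5, 2, 1, 0, 6, 7, 8]),
    (1, 289, [0, 1, 4, 3, 5, 2, 6, 7, 8]),
    (2, 127, [1, 2, 7, 6, 0, 4, 5, 8, 3]),
    (6, 291, [6, 4, 8, 1, 5, 3, 7, 0, 2]),
    (6, 292, [1, 3, 0, 6, 7, 2, 8, 5, 4]),
    (1, 293, [5, 0, 2, 6, 7, 3, 8, 4, 1]),
    (5, 294, [4, 2, 0, 3, 1, 6, 8, 5, 7]),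
    (6, 295, [3, 4, 5, 2, 6, 1, 0, 7, 8]),
    (1, 296, [0, 1, 4, 3, 6, 5, 2, 7, 8]),
    (0, 234, [4, 6, 0, 5, 8, 2, 7, 3, 1]),
    (5, 298, [5, 3, 2, 4, 8, 0, 1, 6, 7]),
    (6, 299, [7, 2, 4, 3, 0, 5, 6, 1, 8]),
    (0, 300, [2, 7, 5, 6, 1, 4, 3, 0, 8]),
    (5, 301, [0, 1, 4, 3, 7, 5, 6, 2, 8]),
    (6, 2, [7, 4, 8, 1, 3, 6, 5, 2, 0]),
    (4, 303, [3, 0, 8, 6, 7, 1, 2, 5, 4]),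
    (6, 304, [2, 5, 0, 1, 8, 6, 4, 7, 3]),
    (1, 305, [3, 4, 2, 5, 8, 6, 1, 7, 0]),
    (1, 306, [0, 1, 3, 4, 8, 6, 5, 7, 2]),
    (0, 307, [1, 0, 6, 5, 8, 3, 4, 2, 7]),
    (3, 308, [0, 1, 4, 3, 8, 5, 6, 7, 2]),
    (0, 303, [2, 5, 8, 0, 6, 3, 4, 7, 1]),
    (5, 310, [0, 4, 8, 2, 3, 6, 5, 1, 7]),
    (6, 311, [5, 3, 0, 4, 2, 1, 7, 6, 8]),
    (2, 312, [1, 0, 3, 7, 6, 5, 4, 2, 8]),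
    (3, 313, [0, 1, 5, 2, 4, 3, 6, 7, 8]),
    (0, 242, [5, 3, 1, 2, 6, 4, 0, 8, 7]),
    (6, 315, [7, 2, 6, 4, 1, 3, 5, 0, 8]),
    (2, 316, [4, 6, 2, 7, 5, 0, 1, 3, 8]),
    (4, 317, [0, 1, 5, 3, 2, 4, 6, 7, 8]),
    (1, 218, [8, 0, 5, 6, 4, 7, 3, 1, 2]),
    (1, 319, [8, 2, 4, 6, 1, 7, 0, 5, 3]),
    (4, 320, [8, 5, 0, 1, 6, 3, 4, 2, 7]),
    (6, 321, [0, 7, 5, 6, 1, 2, 3, 4, 8]),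
    (1, 322, [2, 7, 4, 6, 5, 3, 0, 1, 8]),
    (5, 323, [0, 1, 5, 3, 4, 6, 2, 7, 8]),
    (5, 44, [5, 1, 0, 4, 3, 6, 7, 8, 2]),
    (6, 325, [7, 6, 5, 3, 2, 1, 8, 0, 4]),
    (6, 326, [8, 1, 7, 2, 4, 6, 0, 5, 3]),
    (4, 327, [8, 6, 3, 5, 0, 1, 4, 2, 7]),
    (1, 328, [8, 6, 0, 4, 2, 5, 1, 3, 7]),
    (6, 329, [0, 1, 5, 3, 4, 7, 6, 2, 8]),
    (6, 18, [6, 4, 0, 1, 2, 8, 7, 5, 3]),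
    (0, 331, [3, 5, 1, 0, 7, 8, 2, 4, 6]),
    (2, 332, [0, 1, 5, 3, 4, 8, 6, 7, 2]),
    (1, 13, [6, 4, 8, 5, 7, 0, 3, 1, 2]),
    (0, 334, [3, 5, 8, 4, 2, 1, 6, 0, 7]),
    (4, 335, [7, 2, 8, 0, 5, 6, 1, 4, 3]),
    (6, 336, [8, 4, 0, 5, 7, 1, 6, 3, 2]),
    (3, 337, [8, 6, 1, 3, 2, 0, 4, 5, 7]),
    (6, 338, [0, 1, 6, 2, 4, 5, 3, 7, 8]),
    (0, 278, [2, 5, 8, 6, 0, 4, 3, 7, 1]),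
    (5, 340, [0, 4, 8, 3, 2, 5, 6, 1, 7]),
    (6, 341, [5, 3, 0, 2, 4, 7, 1, 6, 8]),
    (0, 342, [4, 6, 1, 7, 5, 2, 0, 3, 8]),
    (4, 343, [0, 1, 6, 3, 2, 5, 4, 7, 8]),
    (1, 303, [7, 1, 8, 5, 0, 6, 4, 3, 2]),
    (0, 345, [2, 0, 8, 4, 1, 3, 5, 6, 7]),
    (4, 346, [5, 4, 8, 0, 6, 7, 2, 1, 3]),
    (6, 347, [7, 3, 0, 5, 1, 8, 4, 6, 2]),
    (6, 348, [8, 2, 5, 7, 6, 0, 3, 1, 4]),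
    (2, 349, [8, 6, 1, 4, 2, 3, 0, 5, 7]),
    (6, 350, [0, 1, 6, 3, 4, 2, 5, 7, 8]),
    (2, 99, [0, 7, 3, 6, 1, 5, 2, 4, 8]),
    (6, 352, [5, 8, 2, 1, 6, 7, 4, 3, 0]),
    (6, 353, [7, 0, 4, 6, 1, 8, 3, 2, 5]),
    (6, 354, [8, 5, 3, 1, 6, 0, 2, 4, 7]),
    (6, 355, [0, 7, 2, 6, 1, 5, 4, 3, 8]),
    (1, 356, [2, 7, 3, 6, 5, 4, 1, 0, 8]),
    (5, 357, [0, 1, 6, 3, 4, 5, 7, 2, 8]),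
    (4, 25, [1, 2, 8, 3, 6, 5, 7, 0, 4]),
    (6, 359, [6, 4, 0, 2, 1, 7, 8, 5, 3]),
    (2, 360, [2, 7, 3, 6, 5, 4, 8, 1, 0]),
    (5, 361, [0, 1, 6, 3, 4, 5, 8, 7, 2]),
    (4, 99, [7, 0, 4, 5, 2, 6, 1, 3, 8]),
    (6, 363, [8, 5, 3, 7, 4, 1, 6, 2, 0]),
    (1, 364, [8, 4, 0, 7, 1, 5, 6, 3, 2]),
    (1, 365, [8, 1, 2, 7, 5, 4, 6, 0, 3]),
    (4, 366, [8, 6, 5, 3, 2, 0, 1, 4, 7]),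
    (6, 367, [0, 1, 7, 2, 4, 5, 6, 3, 8]),
    (6, 364, [0, 7, 2, 8, 3, 6, 1, 4, 5]),
    (6, 369, [5, 8, 4, 0, 2, 1, 6, 3, 7]),
    (6, 370, [7, 0, 3, 5, 4, 6, 1, 2, 8]),
    (4, 371, [3, 4, 7, 2, 0, 1, 6, 5, 8]),
    (1, 372, [0, 1, 7, 3, 2, 5, 6, 4, 8]),
    (5, 2, [4, 0, 1, 3, 5, 7, 2, 6, 8]),
    (6, 374, [3, 5, 6, 2, 7, 8, 4, 1, 0]),
    (0, 375, [6, 4, 3, 7, 2, 8, 5, 0, 1]),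
    (5, 376, [3, 5, 6, 1, 0, 8, 4, 2, 7]),
    (6, 377, [2, 7, 1, 6, 5, 0, 3, 4, 8]),
    (5, 378, [0, 1, 7, 3, 4, 2, 6, 5, 8]),
    (0, 224, [1, 0, 8, 7, 6, 3, 2, 5, 4]),
    (2, 380, [5, 3, 8, 4, 2, 0, 6, 1, 7]),
    (6, 381, [7, 2, 0, 3, 4, 5, 1, 6, 8]),
    (0, 382, [2, 7, 1, 6, 5, 4, 0, 3, 8]),
    (5, 383, [0, 1, 7, 3, 4, 5, 2, 6, 8]),
    (1, 211, [1, 8, 4, 5, 7, 0, 3, 6, 2]),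
    (6, 385, [6, 0, 3, 7, 8, 5, 2, 1, 4]),
    (2, 386, [2, 3, 0, 4, 8, 1, 6, 5, 7]),
    (6, 387, [4, 2, 5, 3, 0, 6, 1, 7, 8]),
    (6, 388, [3, 4, 7, 2, 5, 1, 6, 8, 0]),
    (1, 389, [0, 1, 7, 3, 4, 5, 6, 8, 2]),
    (0, 220, [1, 0, 8, 7, 6, 3, 4, 2, 5]),
    (3, 391, [0, 1, 8, 2, 4, 5, 6, 7, 3]),
    (2, 3, [7, 4, 6, 0, 1, 3, 5, 2, 8]),
    (6, 393, [8, 3, 1, 5, 6, 2, 7, 4, 0]),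
    (5, 394, [8, 6, 7, 4, 3, 0, 1, 5, 2]),
    (6, 395, [0, 1, 8, 3, 2, 5, 6, 7, 4]),
    (5, 108, [0, 1, 7, 4, 8, 3, 5, 6, 2]),
    (6, 397, [5, 6, 8, 3, 0, 2, 7, 1, 4]),
    (0, 398, [4, 3, 8, 6, 1, 7, 2, 0, 5]),
    (1, 399, [1, 0, 8, 6, 5, 7, 3, 2, 4]),
    (0, 400, [0, 1, 8, 3, 4, 2, 6, 7, 5]),
    (3, 107, [5, 3, 4, 1, 2, 0, 7, 6, 8]),
    (6, 402, [7, 2, 3, 6, 4, 5, 8, 1, 0]),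
    (4, 403, [3, 5, 7, 1, 0, 2, 8, 6, 4]),
    (6, 404, [2, 7, 8, 6, 5, 4, 0, 1, 3]),
    (5, 405, [0, 1, 8, 3, 4, 5, 2, 7, 6]),
    (1, 131, [4, 7, 3, 6, 8, 0, 5, 2, 1]),
    (6, 407, [3, 8, 2, 1, 0, 5, 7, 4, 6]),
    (0, 408, [6, 8, 7, 0, 1, 4, 2, 5, 3]),
    (6, 409, [1, 0, 8, 5, 6, 3, 4, 7, 2]),
    (3, 410, [0, 1, 8, 3, 4, 5, 6, 2, 7]),
    (5, 151, [3, 8, 0, 6, 7, 4, 1, 2, 5]),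
    (6, 412, [2, 0, 5, 1, 8, 3, 6, 4, 7]),
    (6, 413, [4, 5, 7, 6, 0, 2, 1, 3, 8]),
    (4, 414, [0, 2, 3, 1, 4, 5, 6, 7, 8]),
    (6, 66, [6, 2, 4, 1, 3, 7, 0, 8, 5]),
    (6, 416, [1, 4, 3, 6, 2, 8, 5, 0, 7]),
    (6, 417, [6, 3, 2, 1, 4, 0, 7, 5, 8]),
    (0, 418, [3, 6, 7, 0, 5, 1, 2, 4, 8]),
    (2, 419, [0, 2, 4, 3, 1, 5, 6, 7, 8]),
    (1, 286, [7, 3, 2, 1, 8, 0, 4, 6, 5]),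
    (6, 421, [8, 2, 4, 6, 0, 5, 3, 1, 7]),
    (0, 422, [8, 7, 5, 3, 1, 4, 6, 0, 2]),
    (1, 423, [8, 7, 4, 0, 5, 1, 6, 2, 3]),
    (4, 424, [8, 3, 0, 4, 2, 6, 1, 5, 7]),
    (6, 425, [0, 2, 5, 3, 4, 1, 6, 7, 8]),
    (1, 375, [0, 4, 6, 3, 7, 8, 1, 5, 2]),
    (3, 427, [1, 6, 4, 5, 2, 8, 0, 3, 7]),
    (6, 428, [6, 1, 3, 7, 4, 0, 5, 2, 8]),
    (0, 429, [3, 0, 6, 2, 5, 1, 4, 7, 8]),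
    (1, 430, [0, 2, 6, 3, 4, 5, 1, 7, 8]),
    (2, 303, [4, 7, 8, 5, 0, 2, 1, 6, 3]),
    (6, 432, [3, 8, 0, 7, 5, 4, 6, 1, 2]),
    (1, 433, [0, 8, 2, 7, 4, 1, 6, 5, 3]),
    (4, 434, [4, 8, 5, 3, 0, 6, 1, 2, 7]),
    (6, 435, [3, 0, 7, 2, 5, 1, 6, 4, 8]),
    (1, 436, [0, 2, 7, 3, 4, 5, 6, 1, 8]),
    (6, 144, [1, 6, 2, 0, 3, 4, 8, 7, 5]),
    (6, 438, [6, 1, 4, 5, 2, 3, 0, 8, 7]),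
    (2, 439, [2, 5, 7, 1, 6, 0, 3, 8, 4]),
    (6, 440, [4, 7, 8, 6, 1, 5, 2, 0, 3]),
    (1, 441, [1, 7, 8, 6, 5, 4, 3, 2, 0]),
    (0, 442, [0, 2, 8, 3, 4, 5, 6, 7, 1]),
    (6, 86, [8, 4, 2, 3, 1, 0, 7, 6, 5]),
    (6, 444, [0, 3, 4, 2, 6, 5, 8, 1, 7]),
    (6, 445, [5, 2, 3, 4, 1, 7, 0, 6, 8]),
    (0, 446, [4, 7, 6, 5, 0, 2, 1, 3, 8]),
    (4, 447, [0, 3, 1, 2, 4, 5, 6, 7, 8]),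
    (4, 107, [7, 2, 1, 4, 3, 6, 5, 0, 8]),
    (6, 449, [8, 4, 6, 3, 2, 1, 7, 5, 0]),
    (6, 450, [0, 3, 1, 2, 4, 6, 8, 7, 5]),
    (6, 451, [5, 2, 6, 4, 3, 1, 0, 8, 7]),
    (6, 452, [7, 4, 1, 3, 2, 6, 5, 0, 8]),
    (2, 453, [4, 7, 5, 0, 6, 2, 1, 3, 8]),
    (4, 454, [0, 3, 2, 4, 1, 5, 6, 7, 8]),
    (1, 3, [1, 7, 3, 0, 4, 2, 5, 6, 8]),
    (5, 456, [7, 1, 6, 2, 5, 0, 4, 3, 8]),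
    (6, 457, [8, 6, 1, 4, 7, 5, 3, 2, 0]),
    (1, 458, [8, 6, 5, 1, 7, 4, 0, 3, 2]),
    (3, 459, [8, 4, 3, 0, 2, 6, 1, 5, 7]),
    (6, 460, [0, 3, 2, 5, 4, 1, 6, 7, 8]),
    (5, 203, [3, 2, 0, 8, 5, 4, 6, 1, 7]),
    (6, 462, [2, 4, 5, 0, 7, 3, 1, 6, 8]),
    (0, 463, [7, 5, 4, 1, 2, 6, 0, 3, 8]),
    (4, 464, [3, 2, 0, 6, 5, 1, 4, 7, 8]),
    (1, 465, [0, 3, 2, 6, 4, 5, 1, 7, 8]),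
    (6, 278, [8, 3, 0, 2, 6, 7, 1, 4, 5]),
    (6, 467, [0, 2, 5, 4, 1, 8, 6, 3, 7]),
    (6, 468, [5, 4, 7, 3, 6, 0, 1, 2, 8]),
    (1, 469, [4, 1, 7, 0, 6, 2, 5, 3, 8]),
    (1, 470, [1, 5, 7, 2, 6, 3, 4, 0, 8]),
    (3, 471, [0, 3, 2, 7, 4, 5, 6, 1, 8]),
    (5, 3, [5, 1, 0, 6, 4, 2, 7, 3, 8]),
    (6, 473, [7, 6, 5, 1, 3, 4, 8, 2, 0]),
    (5, 474, [1, 3, 4, 7, 6, 5, 8, 0, 2]),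
    (6, 475, [6, 2, 3, 8, 1, 7, 0, 5, 4]),
    (2, 476, [2, 6, 0, 8, 5, 4, 3, 1, 7]),
    (5, 477, [0, 3, 2, 8, 4, 5, 6, 7, 1]),
    (6, 403, [8, 4, 2, 1, 3, 7, 0, 6, 5]),
    (6, 479, [0, 3, 4, 6, 2, 8, 5, 1, 7]),
    (6, 480, [5, 2, 3, 1, 4, 0, 7, 6, 8]),
    (2, 481, [1, 6, 0, 5, 7, 3, 4, 2, 8]),
    (3, 482, [0, 4, 1, 3, 2, 5, 6, 7, 8]),
    (6, 58, [8, 4, 6, 2, 3, 7, 1, 5, 0]),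
    (6, 484, [0, 3, 1, 4, 2, 8, 6, 7, 5]),
    (6, 485, [5, 2, 6, 3, 4, 0, 1, 8, 7]),
    (6, 486, [7, 4, 1, 2, 3, 5, 6, 0, 8]),
    (0, 487, [2, 5, 0, 7, 6, 4, 3, 1, 8]),
    (5, 488, [0, 4, 2, 1, 3, 5, 6, 7, 8]),
    (2, 108, [6, 4, 5, 1, 8, 2, 7, 0, 3]),
    (6, 490, [1, 3, 7, 6, 0, 4, 8, 5, 2]),
    (6, 491, [6, 2, 8, 1, 5, 3, 0, 7, 4]),
    (0, 492, [3, 7, 8, 0, 4, 6, 1, 2, 5]),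
    (6, 493, [2, 8, 0, 5, 3, 1, 6, 4, 7]),
    (6, 494, [4, 0, 5, 7, 2, 6, 1, 3, 8]),
    (4, 495, [0, 4, 2, 3, 5, 1, 6, 7, 8]),
    (2, 271, [7, 0, 1, 4, 2, 6, 3, 8, 5]),
    (4, 497, [3, 4, 6, 0, 5, 1, 7, 8, 2]),
    (6, 498, [2, 3, 1, 5, 7, 6, 8, 0, 4]),
    (2, 499, [6, 0, 5, 1, 4, 2, 8, 3, 7]),
    (6, 500, [1, 5, 7, 6, 3, 4, 0, 2, 8]),
    (0, 501, [0, 4, 2, 3, 6, 5, 1, 7, 8]),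
    (0, 491, [0, 6, 2, 3, 1, 5, 8, 4, 7]),
    (6, 503, [5, 1, 4, 2, 6, 7, 0, 3, 8]),
    (0, 504, [4, 0, 5, 7, 3, 2, 1, 6, 8]),
    (4, 505, [0, 4, 2, 3, 7, 5, 6, 1, 8]),
    (6, 108, [4, 8, 6, 7, 0, 1, 3, 2, 5]),
    (0, 507, [5, 8, 3, 2, 1, 0, 6, 7, 4]),
    (2, 508, [1, 8, 0, 6, 5, 3, 2, 4, 7]),
    (6, 509, [6, 0, 5, 1, 7, 2, 4, 3, 8]),
    (6, 510, [1, 5, 7, 6, 8, 4, 3, 2, 0]),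
    (0, 511, [0, 4, 2, 3, 8, 5, 6, 7, 1]),
    (1, 150, [5, 7, 0, 1, 6, 2, 4, 8, 3]),
    (4, 513, [2, 3, 4, 6, 1, 5, 0, 8, 7]),
    (6, 514, [4, 2, 3, 1, 6, 7, 5, 0, 8]),
    (1, 515, [1, 3, 0, 5, 6, 7, 4, 2, 8]),
    (3, 516, [0, 5, 1, 3, 4, 2, 6, 7, 8]),
    (0, 73, [7, 6, 1, 4, 5, 0, 8, 2, 3]),
    (6, 518, [8, 1, 6, 3, 7, 5, 0, 4, 2]),
    (0, 519, [8, 0, 3, 6, 2, 4, 1, 5, 7]),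
    (6, 520, [0, 5, 2, 1, 4, 3, 6, 7, 8]),
    (1, 346, [3, 2, 8, 1, 5, 0, 4, 6, 7]),
    (6, 522, [2, 4, 0, 6, 7, 5, 3, 1, 8]),
    (5, 523, [0, 5, 2, 3, 1, 4, 6, 7, 8]),
    (6, 272, [6, 5, 3, 8, 1, 2, 4, 0, 7]),
    (0, 525, [3, 4, 6, 8, 0, 7, 5, 1, 2]),
    (1, 526, [0, 1, 6, 8, 2, 7, 4, 5, 3]),
    (4, 527, [4, 6, 1, 8, 5, 3, 0, 2, 7]),
    (6, 528, [3, 1, 6, 0, 7, 2, 5, 4, 8]),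
    (2, 529, [0, 5, 2, 3, 4, 6, 1, 7, 8]),
    (2, 101, [4, 5, 2, 8, 6, 1, 0, 7, 3]),
    (6, 531, [3, 7, 4, 0, 1, 6, 5, 8, 2]),
    (0, 532, [6, 2, 5, 1, 0, 3, 4, 8, 7]),
    (6, 533, [1, 4, 7, 6, 5, 2, 3, 0, 8]),
    (0, 534, [0, 5, 2, 3, 4, 7, 6, 1, 8]),
    (4, 211, [0, 8, 2, 6, 3, 7, 5, 1, 4]),
    (6, 536, [5, 0, 4, 1, 2, 8, 7, 6, 3]),
    (2, 537, [1, 3, 7, 5, 6, 8, 4, 2, 0]),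
    (3, 538, [0, 5, 2, 3, 4, 8, 6, 7, 1]),
    (1, 170, [1, 7, 3, 6, 4, 5, 0, 8, 2]),
    (1, 540, [5, 7, 0, 6, 1, 4, 2, 8, 3]),
    (4, 541, [2, 3, 4, 1, 6, 0, 5, 8, 7]),
    (6, 542, [4, 2, 3, 6, 1, 5, 7, 0, 8]),
    (1, 543, [1, 3, 0, 6, 5, 4, 7, 2, 8]),
    (0, 544, [0, 6, 1, 3, 4, 5, 2, 7, 8]),
    (4, 85, [2, 7, 0, 5, 6, 3, 4, 1, 8]),
    (6, 546, [4, 8, 5, 7, 1, 2, 3, 6, 0]),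
    (2, 547, [7, 8, 1, 4, 5, 6, 0, 2, 3]),
    (6, 548, [8, 0, 6, 3, 7, 1, 5, 4, 2]),
    (0, 549, [8, 1, 3, 6, 2, 0, 4, 5, 7]),
    (6, 550, [0, 6, 2, 1, 4, 5, 3, 7, 8]),
    (5, 127, [4, 3, 5, 0, 6, 1, 7, 8, 2]),
    (1, 552, [1, 0, 4, 2, 6, 5, 7, 8, 3]),
    (0, 553, [0, 1, 5, 7, 3, 4, 2, 8, 6]),
    (6, 554, [5, 6, 7, 8, 2, 3, 4, 0, 1]),
    (5, 555, [4, 3, 1, 8, 0, 6, 5, 2, 7]),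
    (6, 556, [3, 2, 6, 0, 5, 1, 7, 4, 8]),
    (2, 557, [0, 6, 2, 3, 1, 5, 4, 7, 8]),
    (3, 345, [2, 0, 8, 3, 1, 4, 6, 5, 7]),
    (6, 559, [4, 5, 0, 2, 6, 3, 1, 7, 8]),
    (0, 560, [5, 4, 1, 7, 3, 6, 0, 2, 8]),
    (1, 561, [4, 1, 5, 7, 0, 6, 2, 3, 8]),
    (4, 562, [0, 6, 2, 3, 4, 1, 5, 7, 8]),
    (5, 271, [5, 6, 4, 1, 3, 0, 2, 8, 7]),
    (6, 564, [7, 1, 3, 6, 2, 5, 4, 0, 8]),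
    (0, 565, [2, 0, 6, 3, 7, 4, 5, 1, 8]),
    (1, 566, [3, 2, 6, 0, 7, 1, 4, 5, 8]),
    (2, 567, [0, 6, 2, 3, 4, 5, 7, 1, 8]),
    (6, 552, [3, 2, 7, 5, 1, 6, 8, 0, 4]),
    (0, 569, [6, 7, 2, 4, 0, 3, 8, 1, 5]),
    (1, 570, [6, 7, 3, 1, 2, 0, 8, 5, 4]),
    (0, 571, [3, 2, 6, 0, 7, 1, 8, 4, 5]),
    (2, 572, [0, 6, 2, 3, 4, 5, 8, 7, 1]),
    (3, 334, [4, 6, 8, 3, 2, 1, 5, 0, 7]),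
    (6, 574, [3, 1, 0, 2, 4, 6, 7, 5, 8]),
    (0, 575, [6, 0, 1, 7, 5, 3, 2, 4, 8]),
    (1, 576, [6, 2, 5, 7, 4, 0, 3, 1, 8]),
    (0, 577, [3, 7, 4, 2, 5, 1, 6, 0, 8]),
    (1, 578, [0, 7, 1, 3, 4, 5, 6, 2, 8]),
    (0, 211, [5, 8, 4, 0, 2, 6, 7, 3, 1]),
    (5, 580, [4, 8, 5, 2, 0, 3, 1, 6, 7]),
    (6, 581, [3, 0, 7, 4, 5, 2, 6, 1, 8]),
    (0, 582, [6, 1, 2, 5, 4, 7, 3, 0, 8]),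
    (5, 583, [3, 7, 0, 4, 5, 1, 6, 2, 8]),
    (1, 584, [0, 7, 2, 1, 4, 5, 6, 3, 8]),
    (3, 283, [2, 0, 5, 6, 7, 8, 4, 1, 3]),
    (6, 586, [4, 5, 7, 1, 8, 0, 3, 6, 2]),
    (0, 587, [5, 4, 2, 0, 8, 1, 6, 3, 7]),
    (6, 588, [7, 3, 4, 5, 0, 6, 1, 2, 8]),
    (4, 589, [3, 7, 0, 2, 4, 1, 6, 5, 8]),
    (1, 590, [0, 7, 2, 3, 1, 5, 6, 4, 8]),
    (6, 271, [3, 2, 7, 8, 1, 4, 5, 0, 6]),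
    (0, 592, [6, 7, 2, 8, 0, 5, 4, 1, 3]),
    (1, 593, [6, 7, 3, 8, 2, 4, 1, 5, 0]),
    (1, 594, [6, 7, 0, 8, 3, 1, 5, 4, 2]),
    (3, 595, [4, 2, 1, 8, 5, 0, 3, 6, 7]),
    (6, 596, [3, 4, 6, 0, 7, 5, 2, 1, 8]),
    (2, 597, [0, 7, 2, 3, 4, 1, 6, 5, 8]),
    (2, 66, [5, 0, 6, 2, 7, 1, 8, 4, 3]),
    (6, 599, [7, 5, 1, 4, 8, 6, 0, 3, 2]),
    (0, 600, [2, 4, 0, 5, 8, 3, 1, 6, 7]),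
    (6, 601, [4, 3, 5, 7, 0, 2, 6, 1, 8]),
    (4, 602, [0, 7, 2, 3, 4, 5, 1, 6, 8]),
    (4, 353, [2, 8, 5, 6, 1, 3, 0, 7, 4]),
    (6, 604, [4, 0, 7, 1, 6, 2, 5, 8, 3]),
    (1, 605, [1, 2, 7, 5, 6, 3, 4, 8, 0]),
    (3, 606, [0, 7, 2, 3, 4, 5, 6, 8, 1]),
    (4, 31, [3, 0, 1, 6, 4, 2, 7, 5, 8]),
    (6, 608, [2, 5, 6, 1, 3, 4, 8, 7, 0]),
    (3, 609, [7, 3, 4, 0, 5, 6, 8, 2, 1]),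
    (6, 610, [8, 2, 3, 5, 7, 1, 0, 4, 6]),
    (0, 611, [8, 7, 6, 4, 2, 0, 1, 5, 3]),
    (6, 612, [0, 8, 1, 3, 4, 5, 6, 7, 2]),
    (0, 59, [2, 6, 4, 1, 0, 5, 3, 7, 8]),
    (6, 614, [4, 1, 3, 6, 5, 7, 2, 8, 0]),
    (5, 615, [5, 7, 6, 3, 4, 1, 0, 8, 2]),
    (6, 616, [7, 8, 1, 2, 3, 6, 5, 0, 4]),
    (2, 617, [4, 8, 5, 6, 0, 2, 1, 3, 7]),
    (4, 618, [0, 8, 2, 1, 4, 5, 6, 7, 3]),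
    (3, 31, [2, 6, 4, 0, 1, 3, 5, 7, 8]),
    (6, 620, [4, 1, 3, 5, 6, 2, 7, 8, 0]),
    (5, 621, [5, 7, 6, 4, 3, 0, 1, 8, 2]),
    (6, 622, [7, 8, 1, 3, 2, 5, 6, 0, 4]),
    (0, 623, [2, 8, 0, 6, 7, 4, 3, 1, 5]),
    (5, 624, [0, 8, 2, 3, 1, 5, 6, 7, 4]),
    (5, 107, [6, 4, 3, 2, 1, 7, 0, 5, 8]),
    (6, 626, [1, 3, 2, 4, 6, 8, 5, 7, 0]),
    (4, 627, [6, 7, 5, 0, 1, 8, 2, 3, 4]),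
    (6, 628, [1, 8, 7, 5, 6, 0, 4, 2, 3]),
    (3, 629, [0, 8, 2, 3, 4, 1, 6, 7, 5]),
    (4, 66, [6, 7, 5, 1, 0, 2, 8, 3, 4]),
    (6, 631, [1, 8, 7, 6, 5, 4, 0, 2, 3]),
    (0, 632, [0, 8, 2, 3, 4, 5, 1, 7, 6]),
    (4, 264, [5, 7, 2, 0, 3, 1, 6, 8, 4]),
    (6, 634, [7, 8, 4, 5, 2, 6, 1, 0, 3]),
    (4, 635, [3, 8, 0, 2, 5, 1, 6, 4, 7]),
    (1, 636, [0, 8, 2, 3, 4, 5, 6, 1, 7]),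
    (1, 479, [8, 1, 3, 5, 0, 7, 2, 6, 4]),
    (6, 638, [0, 6, 2, 7, 5, 8, 4, 1, 3]),
    (3, 639, [1, 4, 7, 2, 3, 8, 6, 0, 5]),
    (6, 640, [6, 3, 8, 4, 2, 0, 1, 5, 7]),
    (6, 641, [1, 2, 0, 3, 4, 5, 6, 7, 8]),
    (5, 145, [6, 2, 3, 8, 4, 1, 0, 5, 7]),
    (6, 643, [1, 4, 2, 0, 3, 6, 5, 7, 8]),
    (0, 644, [0, 5, 7, 1, 6, 3, 4, 2, 8]),
    (3, 645, [1, 3, 2, 0, 4, 5, 6, 7, 8]),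
    (2, 2, [1, 6, 4, 2, 7, 5, 3, 0, 8]),
    (6, 647, [6, 1, 3, 4, 8, 7, 2, 5, 0]),
    (0, 648, [3, 0, 6, 5, 8, 2, 7, 4, 1]),
    (5, 649, [6, 2, 3, 4, 8, 0, 1, 5, 7]),
    (6, 650, [1, 4, 2, 3, 0, 5, 6, 7, 8]),
    (0, 456, [0, 2, 6, 1, 5, 7, 4, 3, 8]),
    (6, 652, [5, 4, 1, 6, 7, 8, 3, 2, 0]),
    (1, 653, [4, 1, 5, 6, 7, 8, 0, 3, 2]),
    (3, 654, [6, 0, 3, 4, 2, 8, 1, 5, 7]),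
    (6, 655, [1, 5, 2, 3, 4, 0, 6, 7, 8]),
    (1, 311, [2, 1, 8, 3, 0, 6, 4, 5, 7]),
    (6, 657, [4, 6, 0, 2, 5, 1, 3, 7, 8]),
    (1, 658, [1, 6, 2, 3, 4, 5, 0, 7, 8]),
    (4, 592, [7, 5, 3, 8, 6, 0, 2, 4, 1]),
    (1, 660, [7, 4, 0, 8, 6, 2, 3, 1, 5]),
    (6, 661, [8, 3, 5, 0, 1, 4, 2, 6, 7]),
    (6, 662, [0, 2, 7, 5, 6, 3, 4, 1, 8]),
    (3, 663, [1, 7, 2, 3, 4, 5, 6, 0, 8]),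
    (3, 13, [4, 3, 8, 0, 2, 5, 7, 6, 1]),
    (6, 665, [3, 2, 0, 5, 4, 7, 8, 1, 6]),
    (0, 666, [6, 7, 1, 4, 5, 2, 8, 0, 3]),
    (6, 667, [1, 8, 6, 3, 7, 4, 0, 5, 2]),
    (1, 668, [5, 8, 6, 0, 7, 1, 2, 4, 3]),
    (2, 669, [1, 8, 2, 3, 4, 5, 6, 7, 0]),
    (4, 181, [5, 7, 4, 0, 2, 8, 6, 3, 1]),
    (1, 671, [4, 7, 1, 2, 3, 8, 6, 0, 5]),
    (6, 672, [3, 8, 6, 4, 2, 0, 1, 5, 7]),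
    (6, 673, [2, 0, 1, 3, 4, 5, 6, 7, 8]),
    (2, 114, [0, 5, 4, 8, 1, 7, 2, 6, 3]),
    (6, 675, [5, 7, 3, 0, 6, 8, 4, 1, 2]),
    (0, 676, [4, 2, 6, 1, 3, 8, 5, 0, 7]),
    (6, 677, [3, 4, 1, 6, 2, 0, 7, 5, 8]),
    (0, 678, [6, 5, 0, 3, 7, 1, 2, 4, 8]),
    (2, 679, [2, 1, 3, 0, 4, 5, 6, 7, 8]),
    (6, 79, [7, 4, 8, 3, 2, 1, 5, 0, 6]),
    (0, 681, [2, 5, 8, 6, 7, 0, 4, 1, 3]),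
    (3, 682, [7, 3, 8, 4, 2, 1, 6, 0, 5]),
    (6, 683, [8, 2, 0, 3, 4, 6, 1, 5, 7]),
    (6, 684, [0, 4, 5, 2, 3, 1, 6, 7, 8]),
    (1, 685, [2, 1, 4, 3, 0, 5, 6, 7, 8]),
    (5, 609, [0, 4, 3, 7, 6, 5, 8, 1, 2]),
    (6, 687, [5, 3, 2, 8, 1, 7, 0, 6, 4]),
    (2, 688, [1, 0, 6, 8, 5, 4, 3, 2, 7]),
    (6, 689, [6, 5, 1, 0, 7, 3, 2, 4, 8]),
    (2, 690, [2, 1, 5, 3, 4, 0, 6, 7, 8]),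
    (2, 450, [8, 7, 2, 0, 6, 5, 4, 1, 3]),
    (6, 692, [0, 8, 4, 5, 1, 7, 3, 6, 2]),
    (6, 693, [5, 0, 3, 7, 6, 8, 2, 1, 4]),
    (0, 694, [4, 1, 6, 2, 3, 8, 7, 0, 5]),
    (6, 695, [3, 6, 1, 4, 2, 0, 8, 5, 7]),
    (6, 696, [2, 1, 6, 3, 4, 5, 0, 7, 8]),
    (1, 277, [4, 3, 7, 1, 6, 2, 5, 0, 8]),
    (6, 698, [3, 2, 8, 6, 1, 4, 7, 5, 0]),
    (1, 699, [0, 3, 8, 6, 5, 1, 7, 4, 2]),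
    (5, 700, [2, 6, 8, 3, 4, 7, 1, 5, 0]),
    (6, 701, [4, 1, 0, 2, 3, 8, 6, 7, 5]),
    (6, 702, [3, 6, 5, 4, 2, 0, 1, 8, 7]),
    (6, 703, [2, 1, 7, 3, 4, 5, 6, 0, 8]),
    (4, 364, [8, 2, 7, 3, 0, 6, 1, 5, 4]),
    (6, 705, [0, 4, 8, 2, 5, 1, 6, 7, 3]),
    (1, 706, [2, 1, 8, 3, 4, 5, 6, 7, 0]),
    (6, 264, [4, 2, 7, 3, 8, 1, 6, 0, 5]),
    (6, 708, [3, 4, 8, 2, 0, 6, 1, 5, 7]),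
    (6, 709, [2, 3, 0, 4, 5, 1, 6, 7, 8]),
    (1, 710, [3, 0, 2, 1, 4, 5, 6, 7, 8]),
    (3, 438, [0, 4, 7, 1, 5, 6, 8, 2, 3]),
    (6, 712, [5, 3, 8, 6, 7, 1, 0, 4, 2]),
    (0, 713, [4, 6, 8, 3, 2, 0, 1, 5, 7]),
    (6, 714, [3, 1, 0, 2, 4, 5, 6, 7, 8]),
    (3, 150, [0, 2, 5, 6, 4, 1, 3, 8, 7]),
    (6, 716, [5, 4, 7, 1, 3, 6, 2, 0, 8]),
    (0, 717, [4, 5, 2, 0, 6, 3, 7, 1, 8]),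
    (1, 718, [1, 4, 3, 2, 6, 0, 7, 5, 8]),
    (0, 719, [0, 5, 6, 7, 3, 1, 2, 4, 8]),
    (2, 720, [3, 1, 2, 4, 0, 5, 6, 7, 8]),
    (5, 292, [3, 5, 8, 7, 4, 6, 1, 2, 0]),
    (1, 722, [0, 4, 8, 7, 1, 6, 5, 3, 2]),
    (0, 723, [1, 5, 8, 2, 0, 3, 4, 6, 7]),
    (6, 724, [6, 7, 0, 4, 5, 2, 3, 1, 8]),
    (5, 725, [3, 1, 2, 5, 4, 0, 6, 7, 8]),
    (0, 693, [1, 8, 5, 4, 0, 2, 6, 3, 7]),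
    (6, 727, [6, 0, 7, 3, 5, 4, 1, 2, 8]),
    (0, 728, [3, 1, 2, 6, 4, 5, 0, 7, 8]),
    (1, 278, [7, 1, 8, 0, 5, 4, 6, 3, 2]),
    (1, 730, [7, 5, 8, 2, 4, 1, 6, 0, 3]),
    (4, 731, [3, 2, 8, 5, 0, 6, 1, 4, 7]),
    (6, 732, [2, 4, 0, 7, 5, 1, 6, 3, 8]),
    (1, 733, [3, 1, 2, 7, 4, 5, 6, 0, 8]),
    (4, 450, [8, 0, 1, 7, 5, 6, 3, 2, 4]),
    (6, 735, [0, 5, 6, 8, 7, 1, 2, 4, 3]),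
    (2, 736, [3, 1, 2, 8, 4, 5, 6, 7, 0]),
    (4, 61, [8, 7, 3, 0, 1, 4, 2, 6, 5]),
    (6, 738, [0, 8, 2, 5, 6, 3, 4, 1, 7]),
    (1, 739, [2, 8, 3, 4, 6, 0, 1, 5, 7]),
    (6, 740, [4, 0, 2, 3, 1, 5, 6, 7, 8]),
    (1, 2, [4, 3, 7, 6, 1, 5, 2, 0, 8]),
    (3, 742, [6, 5, 2, 4, 0, 3, 7, 1, 8]),
    (6, 743, [1, 7, 4, 3, 5, 2, 8, 6, 0]),
    (2, 744, [5, 4, 7, 0, 1, 6, 8, 2, 3]),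
    (6, 745, [7, 3, 8, 5, 6, 1, 0, 4, 2]),
    (0, 746, [2, 6, 8, 4, 3, 0, 1, 5, 7]),
    (6, 747, [4, 1, 0, 3, 2, 5, 6, 7, 8]),
    (5, 490, [3, 5, 4, 7, 8, 0, 1, 2, 6]),
    (6, 749, [2, 7, 3, 8, 0, 5, 6, 4, 1]),
    (0, 750, [7, 2, 6, 8, 1, 4, 3, 5, 0]),
    (1, 751, [7, 3, 6, 8, 5, 1, 0, 4, 2]),
    (0, 752, [2, 6, 3, 8, 4, 0, 1, 5, 7]),
    (6, 753, [4, 1, 2, 0, 3, 5, 6, 7, 8]),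
    (2, 484, [8, 7, 2, 6, 0, 4, 5, 1, 3]),
    (6, 755, [0, 8, 4, 1, 5, 3, 7, 6, 2]),
    (0, 756, [1, 8, 5, 0, 4, 6, 2, 3, 7]),
    (6, 757, [6, 0, 7, 5, 3, 1, 4, 2, 8]),
    (3, 758, [4, 1, 2, 3, 5, 0, 6, 7, 8]),
    (0, 60, [8, 7, 2, 4, 3, 6, 0, 5, 1]),
    (5, 760, [8, 1, 0, 5, 6, 3, 2, 4, 7]),
    (6, 761, [0, 6, 5, 7, 1, 2, 4, 3, 8]),
    (4, 762, [4, 1, 2, 3, 6, 5, 0, 7, 8]),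
    (3, 319, [8, 1, 3, 4, 6, 2, 5, 0, 7]),
    (6, 764, [0, 6, 2, 3, 1, 4, 7, 5, 8]),
    (0, 765, [1, 3, 7, 6, 0, 5, 2, 4, 8]),
    (1, 766, [5, 0, 7, 6, 2, 4, 3, 1, 8]),
    (0, 767, [4, 1, 2, 3, 7, 5, 6, 0, 8]),
    (4, 484, [8, 0, 1, 5, 7, 3, 6, 2, 4]),
    (6, 769, [0, 5, 6, 7, 8, 2, 1, 4, 3]),
    (0, 770, [1, 4, 3, 2, 8, 7, 0, 5, 6]),
    (2, 771, [5, 7, 0, 6, 8, 4, 3, 1, 2]),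
    (5, 772, [4, 1, 2, 3, 8, 5, 6, 7, 0]),
    (2, 30, [6, 1, 0, 3, 5, 7, 2, 4, 8]),
    (6, 774, [1, 6, 5, 2, 7, 8, 4, 3, 0]),
    (0, 775, [0, 3, 4, 7, 2, 8, 5, 6, 1]),
    (5, 776, [2, 6, 5, 1, 0, 8, 4, 3, 7]),
    (6, 777, [4, 1, 7, 6, 5, 0, 3, 2, 8]),
    (0, 778, [5, 0, 2, 3, 4, 1, 6, 7, 8]),
    (6, 93, [2, 0, 3, 8, 6, 4, 1, 5, 7]),
    (6, 780, [4, 5, 2, 0, 1, 3, 6, 7, 8]),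
    (1, 781, [1, 4, 3, 2, 5, 0, 6, 7, 8]),
    (1, 782, [5, 1, 0, 3, 4, 2, 6, 7, 8]),
    (2, 72, [0, 7, 8, 3, 6, 2, 4, 1, 5]),
    (4, 784, [4, 3, 8, 7, 1, 5, 0, 6, 2]),
    (6, 785, [3, 2, 0, 8, 6, 7, 5, 1, 4]),
    (2, 786, [0, 6, 3, 8, 2, 4, 1, 5, 7]),
    (6, 787, [5, 1, 2, 0, 4, 3, 6, 7, 8]),
    (2, 623, [4, 8, 5, 0, 6, 1, 2, 3, 7]),
    (6, 789, [3, 0, 7, 5, 1, 6, 4, 2, 8]),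
    (3, 790, [5, 1, 2, 3, 0, 4, 6, 7, 8]),
    (6, 211, [3, 0, 7, 6, 8, 2, 4, 1, 5]),
    (6, 792, [2, 5, 8, 1, 0, 4, 3, 6, 7]),
    (6, 793, [4, 7, 0, 6, 5, 3, 2, 1, 8]),
    (5, 794, [5, 1, 2, 3, 4, 6, 0, 7, 8]),
    (1, 283, [7, 5, 0, 1, 3, 8, 6, 2, 4]),
    (5, 796, [1, 4, 2, 7, 6, 8, 3, 0, 5]),
    (6, 797, [6, 3, 4, 8, 1, 0, 2, 5, 7]),
    (1, 798, [6, 0, 1, 8, 5, 2, 3, 4, 7]),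
    (6, 799, [1, 5, 6, 0, 7, 4, 2, 3, 8]),
    (2, 800, [5, 1, 2, 3, 4, 7, 6, 0, 8]),
    (0, 444, [8, 5, 7, 6, 0, 1, 2, 3, 4]),
    (2, 802, [8, 1, 4, 2, 3, 5, 6, 0, 7]),
    (6, 803, [0, 6, 3, 4, 2, 7, 1, 5, 8]),
    (6, 804, [5, 1, 2, 3, 4, 8, 6, 7, 0]),
    (1, 580, [4, 8, 1, 2, 3, 6, 7, 0, 5]),
    (0, 806, [5, 8, 0, 7, 6, 3, 2, 1, 4]),
    (2, 807, [1, 8, 3, 4, 2, 0, 6, 5, 7]),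
    (6, 808, [6, 0, 2, 3, 4, 5, 1, 7, 8]),
    (1, 97, [1, 6, 4, 7, 0, 2, 5, 3, 8]),
    (4, 810, [6, 1, 0, 3, 4, 5, 2, 7, 8]),
    (6, 303, [8, 3, 0, 6, 2, 1, 7, 4, 5]),
    (6, 812, [0, 2, 5, 1, 4, 6, 8, 3, 7]),
    (1, 813, [2, 3, 4, 5, 1, 6, 8, 0, 7]),
    (1, 814, [3, 0, 1, 4, 5, 6, 8, 2, 7]),
    (6, 815, [2, 5, 6, 3, 7, 1, 0, 4, 8]),
    (2, 816, [6, 1, 2, 0, 4, 5, 3, 7, 8]),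
    (2, 15, [2, 8, 1, 5, 3, 7, 0, 6, 4]),
    (6, 818, [4, 0, 6, 7, 2, 8, 5, 1, 3]),
    (3, 819, [6, 1, 4, 2, 7, 8, 3, 0, 5]),
    (6, 820, [1, 6, 3, 4, 8, 0, 2, 5, 7]),
    (6, 821, [6, 1, 2, 3, 0, 5, 4, 7, 8]),
    (0, 182, [6, 1, 7, 0, 5, 8, 4, 2, 3]),
    (4, 823, [1, 6, 3, 4, 2, 8, 0, 5, 7]),
    (6, 824, [6, 1, 2, 3, 4, 0, 5, 7, 8]),
    (6, 507, [3, 0, 1, 8, 5, 6, 2, 4, 7]),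
    (6, 826, [2, 5, 6, 0, 7, 1, 4, 3, 8]),
    (2, 827, [6, 1, 2, 3, 4, 5, 7, 0, 8]),
    (4, 51, [8, 5, 3, 1, 2, 6, 7, 0, 4]),
    (6, 829, [0, 7, 2, 6, 4, 1, 8, 5, 3]),
    (1, 830, [2, 7, 3, 6, 1, 5, 8, 4, 0]),
    (1, 831, [3, 7, 0, 6, 5, 4, 8, 1, 2]),
    (5, 832, [6, 1, 2, 3, 4, 5, 8, 7, 0]),
    (3, 271, [6, 5, 3, 2, 4, 7, 1, 8, 0]),
    (6, 834, [1, 7, 2, 4, 3, 8, 6, 0, 5]),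
    (6, 835, [6, 8, 4, 3, 2, 0, 1, 5, 7]),
    (0, 836, [3, 8, 5, 6, 7, 1, 0, 4, 2]),
    (3, 837, [5, 8, 3, 4, 2, 0, 1, 6, 7]),
    (6, 838, [7, 0, 2, 3, 4, 5, 6, 1, 8]),
    (1, 114, [0, 5, 7, 8, 4, 1, 6, 3, 2]),
    (1, 840, [2, 4, 7, 8, 1, 5, 6, 0, 3]),
    (4, 841, [5, 0, 3, 8, 6, 2, 1, 4, 7]),
    (6, 842, [7, 5, 2, 0, 1, 4, 6, 3, 8]),
    (1, 843, [7, 4, 3, 2, 5, 1, 6, 0, 8]),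
    (1, 844, [7, 1, 0, 3, 4, 5, 6, 2, 8]),
    (1, 234, [4, 0, 5, 1, 8, 7, 3, 6, 2]),
    (3, 846, [6, 1, 3, 0, 8, 2, 5, 4, 7]),
    (6, 847, [1, 6, 2, 5, 0, 4, 7, 3, 8]),
    (0, 848, [0, 3, 7, 4, 1, 5, 2, 6, 8]),
    (1, 849, [2, 0, 7, 1, 5, 4, 3, 6, 8]),
    (0, 850, [7, 1, 2, 0, 4, 5, 6, 3, 8]),
    (2, 138, [8, 2, 5, 4, 7, 0, 1, 6, 3]),
    (6, 852, [0, 4, 7, 3, 8, 5, 6, 1, 2]),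
    (1, 853, [2, 1, 7, 0, 8, 4, 6, 5, 3]),
    (4, 854, [5, 6, 3, 4, 8, 0, 1, 2, 7]),
    (6, 855, [7, 1, 2, 3, 0, 5, 6, 4, 8]),
    (6, 114, [2, 6, 8, 0, 7, 3, 1, 4, 5]),
    (6, 857, [4, 1, 0, 5, 8, 2, 6, 3, 7]),
    (6, 858, [3, 6, 5, 7, 0, 4, 1, 2, 8]),
    (4, 859, [7, 1, 2, 3, 4, 0, 6, 5, 8]),
    (5, 13, [3, 4, 8, 7, 1, 6, 0, 5, 2]),
    (6, 861, [2, 3, 0, 8, 6, 1, 5, 7, 4]),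
    (2, 862, [6, 0, 3, 8, 2, 5, 1, 4, 7]),
    (6, 863, [1, 5, 2, 0, 4, 7, 6, 3, 8]),
    (5, 864, [7, 4, 0, 2, 5, 1, 3, 6, 8]),
    (1, 865, [7, 1, 2, 3, 4, 5, 0, 6, 8]),
    (6, 846, [3, 5, 7, 6, 0, 8, 2, 1, 4]),
    (2, 867, [0, 1, 4, 2, 3, 8, 6, 5, 7]),
    (6, 868, [5, 6, 3, 4, 2, 0, 1, 7, 8]),
    (6, 869, [7, 1, 2, 3, 4, 5, 6, 8, 0]),
    (3, 127, [3, 4, 6, 7, 5, 2, 0, 8, 1]),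
    (6, 871, [2, 3, 1, 8, 7, 4, 5, 0, 6]),
    (0, 872, [7, 6, 0, 8, 2, 5, 4, 1, 3]),
    (6, 873, [8, 1, 5, 0, 4, 7, 3, 6, 2]),
    (1, 874, [8, 5, 4, 2, 1, 7, 0, 6, 3]),
    (0, 875, [8, 4, 5, 7, 0, 2, 1, 3, 6]),
    (4, 876, [8, 0, 2, 3, 4, 5, 6, 7, 1]),
    (4, 699, [7, 5, 8, 1, 6, 0, 3, 2, 4]),
    (6, 878, [8, 7, 0, 6, 1, 5, 2, 4, 3]),
    (1, 879, [8, 7, 2, 6, 5, 4, 3, 1, 0]),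
    (5, 880, [8, 1, 0, 3, 4, 5, 6, 7, 2]),
    (4, 114, [7, 6, 3, 8, 2, 0, 1, 5, 4]),
    (6, 882, [8, 1, 2, 0, 4, 5, 6, 7, 3]),
    (5, 85, [4, 6, 5, 0, 7, 1, 2, 3, 8]),
    (6, 884, [3, 1, 7, 5, 8, 6, 4, 2, 0]),
    (4, 885, [7, 6, 3, 2, 8, 1, 0, 5, 4]),
    (6, 886, [8, 1, 2, 4, 0, 6, 5, 7, 3]),
    (0, 887, [8, 0, 7, 5, 1, 3, 4, 2, 6]),
    (3, 888, [8, 1, 2, 3, 0, 5, 6, 7, 4]),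
    (3, 3, [6, 2, 7, 5, 3, 1, 0, 4, 8]),
    (6, 890, [1, 4, 8, 7, 2, 6, 5, 3, 0]),
    (5, 891, [7, 5, 8, 1, 0, 3, 4, 6, 2]),
    (6, 892, [8, 7, 0, 6, 5, 2, 3, 1, 4]),
    (5, 893, [8, 1, 2, 3, 4, 0, 6, 7, 5]),
    (0, 66, [0, 6, 7, 3, 5, 4, 8, 2, 1]),
    (1, 895, [2, 6, 7, 0, 4, 1, 8, 3, 5]),
    (6, 896, [4, 1, 8, 5, 3, 6, 0, 2, 7]),
    (2, 897, [7, 5, 8, 1, 0, 2, 3, 6, 4]),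
    (6, 898, [8, 7, 0, 6, 5, 4, 2, 1, 3]),
    (5, 899, [8, 1, 2, 3, 4, 5, 0, 7, 6]),
    (0, 143, [0, 3, 5, 2, 7, 6, 4, 1, 8]),
    (6, 901, [5, 2, 7, 4, 8, 1, 3, 6, 0]),
    (3, 902, [3, 7, 2, 6, 8, 0, 5, 4, 1]),
    (6, 903, [2, 8, 4, 1, 0, 5, 7, 3, 6]),
    (0, 904, [7, 8, 5, 0, 1, 4, 2, 6, 3]),
    (6, 905, [8, 0, 7, 5, 6, 3, 4, 1, 2]),
    (3, 906, [8, 1, 2, 3, 4, 5, 6, 0, 7])]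

theorem cycleProg_ok : progOk act.perms cycleProg = true := by decide +kernel

/-- The position of each three-cycle. -/
def cycleIdx : List ℕ := [0, 0, 0, 0, 0, 0, 0, 0, 0, 0, 0, 642, 646, 651, 656, 659, 664, 670, 0, 674, 0, 680, 686, 691, 697, 704, 707, 0, 711, 715, 0, 721, 726, 729, 734, 737, 0, 741, 748, 754, 0, 759, 763, 768, 773, 0, 779, 783, 788, 791, 0, 795, 801, 805, 0, 809, 811, 817, 822, 825, 0, 828, 833, 0, 839, 845, 851, 856, 860, 866, 0, 870, 0, 877, 881, 883, 889, 894, 900, 907, 0, 0, 0, 674, 711, 741, 779, 809, 839, 877, 0, 0, 0, 0, 0, 0, 0, 0, 0, 642, 0, 0, 415, 420, 426, 431, 437, 443, 646, 0, 448, 0, 455, 461, 466, 472, 478, 651, 0, 483, 489, 0, 496, 502, 506, 512, 656, 0, 517, 521, 524, 0, 530, 535, 539, 659, 0,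 545, 551, 558, 563, 0, 568, 573, 664, 0, 579, 585, 591, 598, 603, 0, 607, 670, 0, 613, 619, 625, 630, 633, 637, 0, 0, 642, 0, 715, 748, 783, 811, 845, 881, 674, 0, 0, 448, 483, 517, 545, 579, 613, 0, 0, 0, 0, 0, 0, 0, 0, 0, 680, 415, 0, 0, 256, 263, 270, 276, 282, 686, 420, 0, 285, 0, 290, 297, 302, 309, 691, 426, 0, 314, 318, 0, 324, 330, 333, 697, 431, 0, 339, 344, 351, 0, 358, 362, 704, 437, 0, 368, 373, 379, 384, 0, 390, 707, 443, 0, 392, 396, 401, 406, 411, 0, 0, 646, 680, 0, 754, 788, 817, 851, 883, 711, 0, 415, 0, 489, 521, 551, 585, 619, 715, 448, 0, 0, 285, 314, 339, 368, 392, 0, 0, 0, 0, 0, 0, 0, 0, 0, 721, 455, 256, 0, 0, 136, 142, 149, 155, 726, 461, 263, 0, 162, 0, 168, 174, 179, 729, 466, 270, 0, 186, 193, 0, 198, 202,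 734, 472, 276, 0, 209, 217, 223, 0, 227, 737, 478, 282, 0, 232, 240, 247, 252, 0, 0, 651, 686, 721, 0, 791, 822, 856, 889, 741, 0, 420, 455, 0, 524, 558, 591, 625, 748, 483, 0, 256, 0, 318, 344, 373, 396, 754, 489, 285, 0, 0, 162, 186, 209, 232, 0, 0, 0, 0, 0, 0, 0, 0, 0, 759, 496, 290, 136, 0, 0, 57, 64, 71, 763, 502, 297, 142, 0, 78, 0, 84, 92, 768, 506, 302, 149, 0, 98, 106, 0, 112, 773, 512, 309, 155, 0, 120, 126, 130, 0, 0, 656, 691, 726, 759, 0, 825, 860, 894, 779, 0, 426, 461, 496, 0, 563, 598, 630, 783, 517, 0, 263, 290, 0, 351, 379, 401, 788, 521, 314, 0, 136, 0, 193, 217, 240, 791, 524, 318, 162, 0, 0, 78, 98, 120, 0, 0, 0, 0, 0, 0, 0, 0, 0, 795, 530, 324, 168, 57, 0, 0, 17, 23, 801, 535, 330, 174, 64, 0, 29, 0, 36, 805,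 539, 333, 179, 71, 0, 43, 49, 0, 0, 659, 697, 729, 763, 795, 0, 866, 900, 809, 0, 431, 466, 502, 530, 0, 603, 633, 811, 545, 0, 270, 297, 324, 0, 384, 406, 817, 551, 339, 0, 142, 168, 0, 223, 247, 822, 558, 344, 186, 0, 57, 0, 106, 126, 825, 563, 351, 193, 78, 0, 0, 29, 43, 0, 0, 0, 0, 0, 0, 0, 0, 0, 828, 568, 358, 198, 84, 17, 0, 0, 7, 833, 573, 362, 202, 92, 23, 0, 12, 0, 0, 664, 704, 734, 768, 801, 828, 0, 907, 839, 0, 437, 472, 506, 535, 568, 0, 637, 845, 579, 0, 276, 302, 330, 358, 0, 411, 851, 585, 368, 0, 149, 174, 198, 0, 252, 856, 591, 373, 209, 0, 64, 84, 0, 130, 860, 598, 379, 217, 98, 0, 17, 0, 49, 866, 603, 384, 223, 106, 29, 0, 0, 12, 0, 0, 0, 0, 0, 0, 0, 0, 0, 870, 607, 390, 227, 112, 36, 7, 0, 0, 0, 670, 707, 737, 773,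 805, 833, 870, 0, 877, 0, 443, 478, 512, 539, 573, 607, 0, 881, 613, 0, 282, 309, 333, 362, 390, 0, 883, 619, 392, 0, 155, 179, 202, 227, 0, 889, 625, 396, 232, 0, 71, 92, 112, 0, 894, 630, 401, 240, 120, 0, 23, 36, 0, 900, 633, 406, 247, 126, 43, 0, 7, 0, 907, 637, 411, 252, 130, 49, 12, 0, 0, 0, 0, 0, 0, 0, 0, 0, 0, 0]

theorem cycleProg_length : 0 < cycleProg.length := by decide +kernel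

theorem cycle_mem : ∀ a b c : Fin 9, a ≠ b → b ≠ c → a ≠ c →
    decide (cycleIdx.getD (81 * (a : ℕ) + 9 * (b : ℕ) + c) 0 < cycleProg.length) &&
      inProg [cycleProg.getD (cycleIdx.getD (81 * (a : ℕ) + 9 * (b : ℕ) + c) 0) (0, 0, [])]
        (Equiv.swap a b * Equiv.swap b c) = true := by decide +kernel

/-- Transpositions giving each generator. -/
def swaps : List (List (Fin 9 × Fin 9)) := [[(0, 1), (2, 7), (3, 6), (4, 5)], [(0, 2), (2, 3), (1, 5), (5, 4)], [(0, 3), (1, 5), (2, 6), (4, 7)], [(0, 1), (2, 7), (3, 5), (4, 6)], [(0, 4), (1, 6), (2, 5), (3, 7)], [(0, 2), (1, 7), (3, 6), (4, 5)], [(0, 5), (5, 7), (7, 8), (1, 6), (2, 4), (4, 3)]]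

theorem swaps_ok : ∀ m < act.perms.length,
    act.perms.getD m 1 = ((swaps.getD m []).map fun ab => Equiv.swap ab.1 ab.2).prod ∧
    (swaps.getD m []).length % 2 = 0 ∧ ∀ ab ∈ swaps.getD m [], ab.1 ≠ ab.2 := by decide +kernel

theorem perms_even : ∀ ρ ∈ act.perms, Equiv.Perm.sign ρ = 1 := by
  intro ρ hρ
  obtain ⟨m, hm, rfl⟩ := List.getElem_of_mem hρ
  obtain ⟨h1, h2, h3⟩ := swaps_ok m hm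
  rw [List.getD_eq_getElem _ _ hm] at h1
  rw [h1, Equiv.Perm.sign_prod_list_swap, List.length_map]
  · rw [← Nat.div_add_mod (swaps.getD m []).length 2, h2, add_zero, pow_mul]
    norm_num
  · intro g hg
    obtain ⟨ab, hab, rfl⟩ := List.mem_map.1 hg
    exact ⟨ab.1, ab.2, h3 ab hab, rfl⟩

theorem gen_eq : Subgroup.closure {ρ | ρ ∈ act.perms} = (alternatingGroup (Fin 9)).subtype.range := by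
  rw [Subgroup.range_subtype]
  refine le_antisymm ((Subgroup.closure_le _).2 fun ρ hρ => Equiv.Perm.mem_alternatingGroup.2 (perms_even ρ hρ)) ?_
  rw [← Equiv.Perm.closure_three_cycles_eq_alternating, Subgroup.closure_le]
  intro σ hσ
  obtain ⟨a, b, c, hab, hbc, hac, rfl⟩ := three_cycle_eq hσ
  have h := cycle_mem a b c hab hbc hac
  simp only [Bool.and_eq_true, decide_eq_true_eq] at h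
  refine mem_closure_of_inProg cycleProg_ok ?_
  simp only [inProg, List.any_cons, List.any_nil, Bool.or_false] at h
  simp only [inProg, List.any_eq_true]
  refine ⟨_, ?_, h.2⟩
  rw [List.getD_eq_getElem _ _ h.1]
  exact List.getElem_mem h.1

theorem cent : CentHom data (alternatingGroup (Fin 9)) :=
  centHom ok (fun _ _ x hx => absurd hx (show x ∉ ([] : List ℕ) from List.not_mem_nil)) Nat.prime_three pow_ok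
    not_id act act_ok (alternatingGroup (Fin 9)).subtype Subtype.val_injective gen_eq (by
      rw [nat_card_alternatingGroup, Nat.card_fin]
      decide +kernel)

theorem no_normal_two (N : Subgroup (alternatingGroup (Fin 9))) [N.Normal] (hN : IsPGroup 2 N) : N = ⊥ := by
  have := alternatingGroup.isSimpleGroup (α := Fin 9) (by simp)
  refine (Subgroup.Normal.eq_bot_or_eq_top (H := N) inferInstance).resolve_right fun h => ?_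
  have h3 : (Equiv.swap (0 : Fin 9) 1 * Equiv.swap 1 2) ∈ alternatingGroup (Fin 9) := by
    rw [Equiv.Perm.mem_alternatingGroup, map_mul, Equiv.Perm.sign_swap (by decide), Equiv.Perm.sign_swap (by decide)]
    norm_num
  obtain ⟨k, hk⟩ := hN ⟨⟨_, h3⟩, h ▸ Subgroup.mem_top _⟩
  have hk' := congrArg (fun a : N => ((a : alternatingGroup (Fin 9)) : Equiv.Perm (Fin 9))) hk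
  have hord : orderOf (Equiv.swap (0 : Fin 9) 1 * Equiv.swap 1 2) = 3 :=
    orderOf_eq_prime (p := 3) (by decide +kernel) (by decide +kernel)
  have hdvd : 3 ∣ 2 ^ k := hord ▸ orderOf_dvd_of_pow_eq_one hk'
  exact absurd (Nat.prime_three.dvd_of_dvd_pow hdvd) (by norm_num)

end CfsgLib.MonsterLocal.Three
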